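import Groth.Agent.RelCube.SeesawGen

/-!
Closedness of the locus of trivial fibres over an arbitrary base.
-/

set_option autoImplicit false
set_option linter.style.haveILetI false
set_option linter.unusedSectionVars false
set_option backward.isDefEq.respectTransparency false
set_option backward.isDefEq.respectTransparency.types false
set_option maxHeartbeats 1000000

universe u

open CategoryTheory CategoryTheory.Limits AlgebraicGeometry TopologicalSpace
open Groth.Agent.H23 Groth.Agent.H23.TrivBasic Groth.Agent.H23.SeesawGlobal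

attribute [-instance] CategoryTheory.catToReflQuiver

namespace Groth.Agent.FppfPic

open Groth.Agent Groth.Agent.RelCube

variable {S P : Scheme.{u}} (f : P ⟶ S) [IsProper f] [Flat f] [LocallyOfFinitePresentation f]
  [GeometricallyIntegral f]

/-- closedness and independence of the field, over an affine base -/
theorem trivLocus_of_isAffine [IsAffine S] (L : P.Modules) (hL : PicF.IsInvertible L) :
    (∀ (v : S) (K : Type u) [Field K] (k : Spec (CommRingCat.of K) ⟶ S), k (IsLocalRing.closedPoint K) = v →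
      Triv ((Scheme.Modules.pullback (pullback.fst f k)).obj L) → FieldTriv f L v) ∧
    IsClosed {v : S | FieldTriv f L v} := by
  let e := pullback.fst f (𝟙 S)
  obtain ⟨S₀, X₀, Y₀, π₀, u₀, v₀, qX, qY, hX, hY, L₀, _, _, _, _, _, hL₀, ⟨θ⟩⟩ :=
    exists_model₂ f (𝟙 S) ((Scheme.Modules.pullback e).obj L) (PicClLib.isInvertible_pullback _ hL)
  let p₀ := pullback.fst u₀ v₀ ≫ u₀
  let Q₀ : P ⟶ pullback u₀ v₀ := inv e ≫ pullback.map f (𝟙 S) u₀ v₀ qX qY π₀ hX.w.symm hY.w.symm
  have hQ₀ : IsPullback Q₀ f p₀ π₀ :=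
    (isPullback_prod hX hY).of_iso (asIso e) (Iso.refl _) (Iso.refl _) (Iso.refl _)
      (by simp [Q₀]) (by simp [e]) (by simp [p₀]) (by simp)
  have θ₀ : (Scheme.Modules.pullback Q₀).obj L₀ ≅ L :=
    ((Scheme.Modules.pullbackComp _ _).app L₀).symm ≪≫ (Scheme.Modules.pullback (inv e)).mapIso θ ≪≫
      (Scheme.Modules.pullbackComp _ _).app L ≪≫ (Scheme.Modules.pullbackCongr (IsIso.inv_hom_id e)).app L ≪≫
      (Scheme.Modules.pullbackId _).app L
  haveI : LocallyOfFinitePresentation u₀ := inferInstance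
  haveI : LocallyOfFinitePresentation v₀ := inferInstance
  let U : S₀.Opens := ⟨{w | GeometricallyIntegral (p₀.fiberToSpecResidueField w)},
    GeomLoci.isOpen_geometricallyIntegral p₀⟩
  have hrange : Set.range π₀ ⊆ Set.range U.ι := by
    rintro _ ⟨s, rfl⟩
    rw [Scheme.Opens.range_ι]
    exact (geometricallyIntegral_fiber_iff hQ₀ s).1 inferInstance
  let π : S ⟶ U.toScheme := IsOpenImmersion.lift U.ι π₀ hrange
  have hπU : π ≫ U.ι = π₀ := IsOpenImmersion.lift_fac _ _ _
  obtain ⟨hgi, Q, hQf, hQ⟩ := restrict_model hQ₀ (U := U) (fun w hw => hw) π hπU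
  let p₁ := pullback.snd p₀ U.ι
  haveI : GeometricallyIntegral p₁ := hgi
  let L₁ := (Scheme.Modules.pullback (pullback.fst p₀ U.ι)).obj L₀
  have hL₁ : PicF.IsInvertible L₁ := PicClLib.isInvertible_pullback _ hL₀
  let θ₁ : (Scheme.Modules.pullback Q).obj L₁ ≅ L :=
    (Scheme.Modules.pullbackComp _ _).app L₀ ≪≫ (Scheme.Modules.pullbackCongr hQf).app L₀ ≪≫ θ₀
  have hpt : ∀ (v : S) (K : Type u) [Field K] (k : Spec (CommRingCat.of K) ⟶ S),
      k (IsLocalRing.closedPoint K) = v →
      Triv ((Scheme.Modules.pullback (pullback.fst f k)).obj L) → FieldTriv p₁ L₁ (π v) := fun v K _ k hk hT =>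
    SeesawGlobal.fieldTriv_of_point p₁ hL₁ K (k ≫ π) (by rw [Scheme.Hom.comp_apply, hk])
      (triv_point_model hQ θ₁ k hT)
  have hiff : ∀ v : S, FieldTriv f L v ↔ FieldTriv p₁ L₁ (π v) := fun v =>
    ⟨fun hv => hpt v (S.residueField v) (S.fromSpecResidueField v) (Scheme.fromSpecResidueField_apply _ _)
      (hv _ _ (Scheme.fromSpecResidueField_apply _ _)), fun hv => fieldTriv_of_model θ₁ v hv hQ.w⟩
  refine ⟨fun v K _ k hk hT => fieldTriv_of_model θ₁ v (hpt v K k hk hT) hQ.w, ?_⟩
  rw [show {v : S | FieldTriv f L v} = π ⁻¹' {w | FieldTriv p₁ L₁ w} from Set.ext hiff]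
  exact (SeesawGlobal.isClosed_fieldTriv p₁ hL₁).preimage π.continuous

theorem fieldTriv_open_iff (L : P.Modules) (V : S.Opens) (w : V.toScheme) :
    FieldTriv (pullback.snd f V.ι) ((Scheme.Modules.pullback (pullback.fst f V.ι)).obj L) w ↔
      FieldTriv f L (V.ι w) := by
  have hsq : IsPullback (pullback.fst f V.ι) (pullback.snd f V.ι) f V.ι := IsPullback.of_hasPullback f V.ι
  refine ⟨fun h K _ k hk => ?_, fun h => fieldTriv_of_model (Iso.refl _) w h hsq.w⟩
  have hr : Set.range k ⊆ Set.range V.ι := by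
    rintro _ ⟨s, rfl⟩
    rw [Subsingleton.elim s (IsLocalRing.closedPoint K), hk]
    exact ⟨w, rfl⟩
  have hfac : IsOpenImmersion.lift V.ι k hr ≫ V.ι = k := IsOpenImmersion.lift_fac _ _ _
  have hkw : IsOpenImmersion.lift V.ι k hr (IsLocalRing.closedPoint K) = w := by
    refine V.ι.isOpenEmbedding.injective ?_
    rw [← hk]
    exact congr($hfac (IsLocalRing.closedPoint K))
  exact hfac ▸ triv_point_model hsq (Iso.refl _) _ (h K _ hkw)

/-- triviality over one field gives triviality over all fields at the same point -/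
theorem fieldTriv_of_triv (L : P.Modules) (hL : PicF.IsInvertible L) (v : S) (K : Type u) [Field K]
    (k : Spec (CommRingCat.of K) ⟶ S) (hk : k (IsLocalRing.closedPoint K) = v)
    (hT : Triv ((Scheme.Modules.pullback (pullback.fst f k)).obj L)) : FieldTriv f L v := by
  obtain ⟨V, hV, hv, -⟩ := exists_isAffineOpen_mem_and_subset (x := v) (U := ⊤) trivial
  haveI : IsAffine V.toScheme := hV
  have hr : Set.range k ⊆ Set.range V.ι := by
    rintro _ ⟨s, rfl⟩
    rw [Subsingleton.elim s (IsLocalRing.closedPoint K), hk, Scheme.Opens.range_ι]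
    exact hv
  have hfac : IsOpenImmersion.lift V.ι k hr ≫ V.ι = k := IsOpenImmersion.lift_fac _ _ _
  have hkw : IsOpenImmersion.lift V.ι k hr (IsLocalRing.closedPoint K) = ⟨v, hv⟩ := by
    refine V.ι.isOpenEmbedding.injective ?_
    exact (congr($hfac (IsLocalRing.closedPoint K))).trans hk
  refine (fieldTriv_open_iff f L V ⟨v, hv⟩).1 ((trivLocus_of_isAffine (pullback.snd f V.ι) _
    (PicClLib.isInvertible_pullback _ hL)).1 _ K (IsOpenImmersion.lift V.ι k hr) hkw ?_)
  refine (triv_comp_iff _ _).2 (SeesawGlobal.triv_of_factor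
    (pullback.lift (pullback.fst _ _ ≫ pullback.fst f V.ι) (pullback.snd _ _) ?_) (pullback.lift_fst _ _ _) hT)
  rw [Category.assoc, pullback.condition, pullback.condition_assoc, hfac]

/-- the locus of trivial fibres is closed -/
theorem isClosed_trivLocus (L : P.Modules) (hL : PicF.IsInvertible L) : IsClosed {v : S | FieldTriv f L v} := by
  rw [← isOpen_compl_iff, isOpen_iff_forall_mem_open]
  intro v hv
  obtain ⟨V, hV, hvV, -⟩ := exists_isAffineOpen_mem_and_subset (x := v) (U := ⊤) trivial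
  haveI : IsAffine V.toScheme := hV
  refine ⟨V.ι '' {w | ¬ FieldTriv (pullback.snd f V.ι) ((Scheme.Modules.pullback (pullback.fst f V.ι)).obj L) w},
    ?_, V.ι.isOpenEmbedding.isOpenMap _ (trivLocus_of_isAffine (pullback.snd f V.ι) _
      (PicClLib.isInvertible_pullback _ hL)).2.isOpen_compl, ⟨⟨v, hvV⟩, ?_, rfl⟩⟩
  · rintro _ ⟨w, hw, rfl⟩ h
    exact hw ((fieldTriv_open_iff f L V w).2 h)
  · exact fun h => hv ((fieldTriv_open_iff f L V ⟨v, hvV⟩).1 h)

end Groth.Agent.FppfPic
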