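import Groth.Prelude.Def_Pic13
import Groth.Agent.S1647
import Groth.Agent.S1642
import Groth.Agent.KFlatLib.Scheme.ProjModule
import Groth.Agent.QCoh.AffineCohom
import Groth.Agent.QCoh.Support
import Groth.Agent.GGFF.Descent
import Groth.Agent.AmpleX.Generated
import Groth.Agent.PushAmp.ClosedBaseChange
import Groth.Agent.H23.PicMul
import Groth.Agent.KFlatLib.Scheme.QCohTensor
import Groth.Agent.CohBasic.EulerBC

/-!
Castelnuovo–Mumford regularity on closed subschemes of projective space.
-/

noncomputable section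

set_option autoImplicit false
set_option linter.style.haveILetI false
set_option backward.isDefEq.respectTransparency false
set_option backward.isDefEq.respectTransparency.types false
set_option maxHeartbeats 800000
attribute [-instance] CategoryTheory.catToReflQuiver

universe u

open CategoryTheory CategoryTheory.Limits AlgebraicGeometry

namespace Groth.Agent.FppfPic.MReg

variable (k : Type u) [Field k] (n : ℕ) {X : Scheme.{u}} (i : X ⟶ CohB1.ProjSpace n k) [IsClosedImmersion i]
  (F : X.Modules) (hF : Coh.IsCoh F)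

theorem push_twist (d : ℤ) : Nonempty (CohB1.tensorMod ((Scheme.Modules.pushforward i).obj F) (Twist.twistProjSpace n k d) ≅
    (Scheme.Modules.pushforward i).obj (Pic13.twistOn k i F d)) := by
  haveI := KFlatLib.isIso_projMod_of_isClosedImmersion i F (Twist.twistProjSpace n k d)
  exact ⟨asIso (KFlatLib.projMod i F (Twist.twistProjSpace n k d))⟩

include hF

theorem isQCoh_twistOn (d : ℤ) : Coh.IsQCoh (Pic13.twistOn k i F d) :=
  KFlatLib.isQCoh_tensor hF.1 (QCoh.isQCoh_pullback i (CohBasic.isQCoh_twistProjSpace n k d))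

theorem hh_iff (d : ℤ) (q : ℕ) : Subsingleton (Coh.HH X (Pic13.twistOn k i F d) q) ↔
    Subsingleton (Coh.HH (CohB1.ProjSpace n k)
      (CohB1.tensorMod ((Scheme.Modules.pushforward i).obj F) (Twist.twistProjSpace n k d)) q) := by
  obtain ⟨e⟩ := QCoh.HH_push_of_isAffineHom i (isQCoh_twistOn k n i F hF d) q
  obtain ⟨p⟩ := push_twist k n i F d
  obtain ⟨e'⟩ : Nonempty (Coh.HH (CohB1.ProjSpace n k)
      (CohB1.tensorMod ((Scheme.Modules.pushforward i).obj F) (Twist.twistProjSpace n k d)) q ≃+
      Coh.HH (CohB1.ProjSpace n k) ((Scheme.Modules.pushforward i).obj (Pic13.twistOn k i F d)) q) :=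
    ⟨((Sheaf.functorH _ q).mapIso ((SheafOfModules.toSheaf _).mapIso p)).addCommGroupIsoToAddEquiv⟩
  exact ⟨fun h => e'.toEquiv.subsingleton_congr.2 (e.toEquiv.subsingleton_congr.1 h),
    fun h => e.toEquiv.subsingleton_congr.2 (e'.toEquiv.subsingleton_congr.1 h)⟩

theorem main (m : ℤ) (h : Pic13.IsMRegular k i F m) (n' : ℤ) (hn' : m ≤ n') :
    Pic13.IsMRegular k i F n' ∧ Curv2.IsGloballyGenerated (Pic13.twistOn k i F n') := by
  haveI : IsFinite i := inferInstance
  have hG : Coh.IsCoh ((Scheme.Modules.pushforward i).obj F) := QCoh.isCoh_pushforward_finite i hF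
  have h0 : Curv2.IsMRegular k n ((Scheme.Modules.pushforward i).obj F) m := fun q hq _ =>
    (hh_iff k n i F hF _ q).1 (h q hq)
  obtain ⟨e, rfl⟩ : ∃ e : ℕ, n' = m + e := ⟨(n' - m).toNat, by omega⟩
  have h1 := ProjRegular.isMRegular_add hG h0 e
  refine ⟨fun q hq => (hh_iff k n i F hF _ q).2 ?_, ?_⟩
  · by_cases hqn : q ≤ n
    · exact h1 q hq hqn
    · exact ProjRegular.subsingleton_HH_high hG _ q (by omega)
  · obtain ⟨p⟩ := push_twist k n i F (m + e)
    have hg := GGFF.isGloballyGenerated_pullback i (AmpleX.isGloballyGenerated_of_iso p (S1647.result k n _ hG _ h1))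
    haveI := PushAmp.isIso_counit_closed_all i (Pic13.twistOn k i F (m + e))
    exact AmpleX.isGloballyGenerated_of_iso
      (asIso ((Scheme.Modules.pullbackPushforwardAdjunction i).counit.app (Pic13.twistOn k i F (m + e)))) hg

end Groth.Agent.FppfPic.MReg

end
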