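import Groth.Agent.FppfPic.MReg
import Groth.Agent.Lib.RegDescent
import Groth.Agent.QCoh.PushLin
import Groth.Agent.KRRReg.PushOps
import Groth.Agent.PnCoh.Finite.ProjSpace

/-!
Regularity from a hyperplane section, on closed subschemes of projective space.
-/

noncomputable section

set_option autoImplicit false
set_option linter.style.haveILetI false
set_option linter.unusedSectionVars false
set_option backward.isDefEq.respectTransparency false
set_option backward.isDefEq.respectTransparency.types false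
set_option maxHeartbeats 800000
attribute [-instance] CategoryTheory.catToReflQuiver

universe u

open CategoryTheory CategoryTheory.Limits AlgebraicGeometry

namespace Groth.Agent.FppfPic.MReg

instance projOver (k : Type u) [Field k] (n : ℕ) :
    (Proj (CohB1.polyGrading n k)).Over (Spec (CommRingCat.of k)) :=
  inferInstanceAs ((CohB1.ProjSpace n k).Over (Spec (CommRingCat.of k)))

variable (k : Type u) [Field k] (n : ℕ) (X : Scheme.{u}) [X.Over (Spec (CommRingCat.of k))]
  (i : X ⟶ CohB1.ProjSpace n k) [IsClosedImmersion i]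
  (hi : i ≫ CohB1.ProjSpace.toSpec n k = X ↘ Spec (CommRingCat.of k))
  (F : X.Modules) (hF : Coh.IsCoh F)

include hi hF

theorem finrank_push (d : ℤ) (q : ℕ) :
    Module.finrank k (Coh.HH X (Pic13.twistOn k i F d) q) =
      Module.finrank k (Coh.HH (CohB1.ProjSpace n k)
        (CohB1.tensorMod ((Scheme.Modules.pushforward i).obj F) (Twist.twistProjSpace n k d)) q) := by
  let ρ : k →+* Coh.Γtop (CohB1.ProjSpace n k) := Coh.toGlobal (CohB1.ProjSpace n k ↘ Spec (CommRingCat.of k))
  let ρ' : k →+* Coh.Γtop X := Coh.toGlobal (X ↘ Spec (CommRingCat.of k))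
  have hρ : ∀ a, ρ' a = i.appTop (ρ a) := fun a => by
    show (X ↘ Spec (CommRingCat.of k)).appTop _ = i.appTop ((CohB1.ProjSpace.toSpec n k).appTop _)
    rw [← hi, Scheme.Hom.comp_appTop]
    rfl
  obtain ⟨e⟩ := QCoh.HH_push_linear i ρ ρ' hρ (isQCoh_twistOn k n i F hF d) q
  obtain ⟨p⟩ := push_twist k n i F d
  exact e.finrank_eq.trans (RegDescent.HHequiv (k := k) p q).finrank_eq.symm

theorem main_seq (G : X.Modules) (hG : Coh.IsCoh G)
    (f : Pic13.twistOn k i F (-1) ⟶ F) (g : F ⟶ G) (hfg : f ≫ g = 0) (hS : (ShortComplex.mk f g hfg).ShortExact)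
    (m : ℤ) (hGm : Pic13.IsMRegular k i G m) :
    (∀ (q : ℕ) (n' : ℤ), 2 ≤ q → m - q ≤ n' → Subsingleton (Coh.HH X (Pic13.twistOn k i F n') q)) ∧
    (∀ n' : ℤ, m - 1 ≤ n' →
      Module.finrank k (Coh.HH X (Pic13.twistOn k i F n') 1) ≤ Module.finrank k (Coh.HH X (Pic13.twistOn k i F (n' - 1)) 1)) ∧
    (∀ n' : ℤ, (m - 1) + (Module.finrank k (Coh.HH X (Pic13.twistOn k i F (m - 1)) 1) : ℤ) ≤ n' →
      Subsingleton (Coh.HH X (Pic13.twistOn k i F n') 1)) ∧
    Pic13.IsMRegular k i F (m + Module.finrank k (Coh.HH X (Pic13.twistOn k i F (m - 1)) 1)) := by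
  let P := (Scheme.Modules.pushforward i).obj F
  have hP : Coh.IsCoh P := QCoh.isCoh_pushforward_finite i hF
  have hQ : Coh.IsCoh ((Scheme.Modules.pushforward i).obj G) := QCoh.isCoh_pushforward_finite i hG
  obtain ⟨p⟩ := push_twist k n i F (-1)
  have hs := KRRReg.shortExact_pushClosed (f := i) hS hF.1 hG.1
  let T : RegDescent.Setup (k := k) (n := n) P ((Scheme.Modules.pushforward i).obj G) m :=
    { ι := p.hom ≫ (Scheme.Modules.pushforward i).map f
      π := (Scheme.Modules.pushforward i).map g
      w := by rw [Category.assoc, ← Functor.map_comp, hfg, Functor.map_zero]; exact comp_zero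
      exact := by
        let S₁ := ShortComplex.mk (p.hom ≫ (Scheme.Modules.pushforward i).map f) ((Scheme.Modules.pushforward i).map g)
          (by rw [Category.assoc, ← Functor.map_comp, hfg, Functor.map_zero]; exact comp_zero)
        let S₂ := (ShortComplex.mk f g hfg).map (Scheme.Modules.pushforward i)
        let e : S₁ ≅ S₂ := ShortComplex.isoMk p (Iso.refl _) (Iso.refl _)
          (Category.comp_id _).symm ((Category.id_comp _).trans (Category.comp_id _).symm)
        exact ShortComplex.shortExact_of_iso e.symm hs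
      cohF := hP
      cohG := hQ
      reg := fun q hq _ => (hh_iff k n i G hG _ q).1 (hGm q hq)
      finH1 := fun j => PnCoh.Finite.projSpace_finite_HH n k _ (ProjRegular.isCoh_twistBy hP j) 1 }
  have hfr : ∀ j, Module.finrank k (Coh.HH X (Pic13.twistOn k i F j) 1) = RegDescent.h1 (k := k) P j := fun j =>
    finrank_push k n X i hi F hF j 1
  have h1 : ∀ (q : ℕ) (n' : ℤ), 2 ≤ q → m - q ≤ n' → Subsingleton (Coh.HH X (Pic13.twistOn k i F n') q) :=
    fun q n' hq hn' => (hh_iff k n i F hF n' q).2 (RegDescent.subsingleton_high T q hq n' hn')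
  have h3 : ∀ n' : ℤ, (m - 1) + (Module.finrank k (Coh.HH X (Pic13.twistOn k i F (m - 1)) 1) : ℤ) ≤ n' →
      Subsingleton (Coh.HH X (Pic13.twistOn k i F n') 1) := fun n' hn' =>
    (hh_iff k n i F hF n' 1).2 (RegDescent.subsingleton_one T n' (by rwa [← hfr]))
  refine ⟨h1, fun n' hn' => by rw [hfr, hfr]; exact RegDescent.h1_le T n' hn', h3, fun q hq => ?_⟩
  rcases Nat.lt_or_ge q 2 with h | h
  · obtain rfl : q = 1 := by omega
    exact h3 _ (by push_cast; omega)
  · exact h1 q _ h (by omega)

end Groth.Agent.FppfPic.MReg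

end
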