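import Groth.Agent.FppfPic.RelPic
import Groth.Agent.S16491
import Groth.Agent.QCoh.ExtendFT
import Groth.Agent.Ref1X.Big
import Groth.Agent.Lib.CurveDeg
import Groth.Agent.Lib.GammaDescent
import Groth.Agent.BlowExc.Regular
import Groth.Agent.SmoothMin.Fibre
import Groth.Agent.H23.GeomConnGamma
import Groth.Agent.H9FlatCl.Closure

/-!
Invertible modules on an open subscheme of a regular scheme extend.
-/

noncomputable section

set_option autoImplicit false
set_option linter.style.haveILetI false
set_option linter.unusedSectionVars false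
set_option backward.isDefEq.respectTransparency false
set_option backward.isDefEq.respectTransparency.types false
set_option maxHeartbeats 1000000
set_option synthInstance.maxHeartbeats 400000
attribute [-instance] CategoryTheory.catToReflQuiver

universe u

open CategoryTheory CategoryTheory.Limits AlgebraicGeometry TopologicalSpace Opposite
open Groth.Agent.H23.PicMul

namespace Groth.Agent.FppfPic

theorem noetherianSpace_nhd {X : Scheme.{u}} [IsLocallyNoetherian X] (x : X) :
    ∃ U : X.Opens, x ∈ U ∧ NoetherianSpace (U : Set X) := by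
  obtain ⟨_, ⟨V, hV, rfl⟩, hxV, -⟩ :=
    X.isBasis_affineOpens.exists_subset_of_mem_open (Set.mem_univ x) isOpen_univ
  haveI : IsNoetherianRing Γ(X, V) := IsLocallyNoetherian.component_noetherian ⟨V, hV⟩
  exact ⟨V, hxV, noetherianSpace_of_isAffineOpen V hV⟩

/-- invertible modules extend from a nonempty open of a regular integral scheme -/
theorem exists_extension_invertible {X : Scheme.{u}} [IsIntegral X] [IsLocallyNoetherian X]
    (hreg : ∀ x : X, IsRegularLocalRing (X.presheaf.stalk x)) {U : X.Opens} (hU : (U : Set X).Nonempty)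
    (L : (U : Scheme.{u}).Modules) (hL : PicF.IsInvertible L) :
    ∃ M : X.Modules, PicF.IsInvertible M ∧ Nonempty ((Scheme.Modules.pullback U.ι).obj M ≅ L) := by
  haveI := QCoh.quasiCompact_ι_of_noetherian noetherianSpace_nhd U
  have hLc := CurveDeg.isCoh_of_isInvertible hL
  obtain ⟨G, hGq, hGf, ⟨e⟩⟩ := QCoh.exists_extension_abs (QCoh.extStep_noetherian noetherianSpace_nhd U) L hLc.1 hLc.2
  have hG : Coh.IsCoh G := ⟨hGq, hGf⟩
  have hfree : ∀ x ∈ U, Function.Bijective (RefHull.stalkMapₗ (RefHull.bidualMap G) x) := fun x hx => by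
    refine Ref1X.bidual_bijective_of_free hG x ((Ref1X.free_stalk_restrict_iff G hx).1 ?_)
    exact QCoh.free_stalk_of_isFinLocFree (H23.PullPush.isFinLocFree_of_iso e.symm fun y =>
      let ⟨W, hy, w⟩ := InvEnd.isFinLocFreeOfRank_one hL y
      ⟨W, 1, hy, w⟩) _
  haveI := Ref1X.isIso_restrict_of_stalk (RefHull.bidualMap G) hfree
  let e' : (RefHull.ddual G).restrict U.ι ≅ L :=
    (asIso ((Scheme.Modules.restrictFunctor U.ι).map (RefHull.bidualMap G))).symm ≪≫ e
  refine ⟨RefHull.ddual G, S16491.result X hreg _ (RefX.isCoh_dual (RefX.isCoh_dual hG))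
    (Ref1X.isReflexive_ddual hG) ⟨U, ?_, isInvertible_of_iso e'.symm hL⟩,
    ⟨((Scheme.Modules.restrictFunctorIsoPullback U.ι).app _).symm ≪≫ e'⟩⟩
  exact U.2.dense hU

theorem exists_pullback_open {X Y : Scheme.{u}} [IsIntegral X] [IsLocallyNoetherian X]
    (hreg : ∀ x : X, IsRegularLocalRing (X.presheaf.stalk x)) (j : Y ⟶ X) [IsOpenImmersion j] [Nonempty Y]
    {c : PicF.Cl Y} (hc : PicF.IsInvertibleCl c) :
    ∃ d : PicF.Cl X, PicF.IsInvertibleCl d ∧ PicF.pullCl j d = c := by
  obtain ⟨L, rfl, hL⟩ := hc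
  let e := j.isoOpensRange
  obtain ⟨M, hM, ⟨m⟩⟩ := exists_extension_invertible hreg (U := j.opensRange) (Set.range_nonempty j) _
    (PicClLib.isInvertible_pullback e.inv hL)
  refine ⟨PicF.cl M, ⟨M, rfl, hM⟩, ?_⟩
  have h : PicF.pullCl j.opensRange.ι (PicF.cl M) = PicF.pullCl e.inv (PicF.cl L) := (PicGrp.cl_eq_cl_iff _ _).2 ⟨m⟩
  have h2 := congrArg (PicF.pullCl e.hom) h
  rwa [PicClLib.pullCl_comp, PicClLib.pullCl_comp, Scheme.Hom.isoOpensRange_hom_ι, e.hom_inv_id,
    PicClLib.pullCl_id] at h2

/-- a regular scheme with no nontrivial idempotent functions is integral -/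
theorem isIntegral_of_regular {X : Scheme.{u}} [IsLocallyNoetherian X] [CompactSpace X] [ConnectedSpace X]
    (hreg : ∀ x : X, IsRegularLocalRing (X.presheaf.stalk x)) : IsIntegral X := by
  haveI : IsNoetherian X := {}
  refine SmoothMin.isIntegral_of_connected X fun x => ?_
  haveI := hreg x
  obtain ⟨_, _⟩ := RegUFD.ufd (X.presheaf.stalk x)
  exact ⟨inferInstance, inferInstance⟩

variable {X S : Scheme.{u}} (f : X ⟶ S) [IsProper f] [Smooth f] [GeometricallyConnected f]

theorem bijective_app_of_connected (σ : S ⟶ X) (hσ : σ ≫ f = 𝟙 S) (T : Over S) (U : T.left.Opens) :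
    IsIso ((PicF.XTproj f T).app U) := by
  haveI := H23.RigidGamma.geometricallyReduced_of_smooth f
  haveI : Surjective f := ⟨fun s => ⟨σ s, congr($hσ s)⟩⟩
  haveI : IsProper (pullback.snd f T.hom) := MorphismProperty.pullback_snd _ _ inferInstance
  haveI : Flat (pullback.snd f T.hom) := MorphismProperty.pullback_snd _ _ inferInstance
  haveI : Surjective (pullback.snd f T.hom) := MorphismProperty.pullback_snd _ _ inferInstance
  haveI : LocallyOfFinitePresentation (pullback.snd f T.hom) := MorphismProperty.pullback_snd _ _ inferInstance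
  exact (ConcreteCategory.isIso_iff_bijective _).2
    (GammaDescent.bijective_app (pullback.snd f T.hom) ((H23.RigidGamma.constFibres f).baseChange T.hom) U)

/-- the base change of a smooth family with connected fibres to a regular local domain is integral regular -/
theorem integral_regular (σ : S ⟶ X) (hσ : σ ≫ f = 𝟙 S) (R : Type u) [CommRing R] [IsDomain R]
    [IsNoetherianRing R] (b : Spec (CommRingCat.of R) ⟶ S)
    (hR : ∀ p : Spec (CommRingCat.of R), IsRegularLocalRing ((Spec (CommRingCat.of R)).presheaf.stalk p)) :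
    IsIntegral (PicF.XT f (Over.mk b)) ∧ IsLocallyNoetherian (PicF.XT f (Over.mk b)) ∧
      ∀ x : (PicF.XT f (Over.mk b)), IsRegularLocalRing ((PicF.XT f (Over.mk b)).presheaf.stalk x) := by
  let p : (PicF.XT f (Over.mk b)) ⟶ Spec (CommRingCat.of R) := PicF.XTproj f (Over.mk b)
  haveI : Smooth p := MorphismProperty.pullback_snd _ _ inferInstance
  haveI : IsProper p := MorphismProperty.pullback_snd _ _ inferInstance
  haveI : IsLocallyNoetherian (PicF.XT f (Over.mk b)) := LocallyOfFiniteType.isLocallyNoetherian p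
  have hreg : ∀ x : (PicF.XT f (Over.mk b)), IsRegularLocalRing ((PicF.XT f (Over.mk b)).presheaf.stalk x) := fun x => by
    haveI := hR (p x)
    exact BlowExc.regular_stalk_of_smooth p x
  haveI : IsIso p.appTop := bijective_app_of_connected f σ hσ (Over.mk b) ⊤
  have hbij : Function.Bijective p.appTop := ConcreteCategory.bijective_of_isIso p.appTop
  haveI : CompactSpace (PicF.XT f (Over.mk b)) := (quasiCompact_iff_compactSpace p).1 inferInstance
  haveI : IsDomain Γ(Spec (CommRingCat.of R), ⊤) :=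
    (Scheme.ΓSpecIso (CommRingCat.of R)).commRingCatIsoToRingEquiv.toMulEquiv.isDomain
  let E := RingEquiv.ofBijective p.appTop.hom hbij
  haveI : IsDomain Γ(PicF.XT f (Over.mk b), ⊤) := E.symm.toMulEquiv.isDomain
  haveI : ConnectedSpace (PicF.XT f (Over.mk b)) :=
    H23.GeomConnGamma.connectedSpace_of_idem fun _ he => IsIdempotentElem.iff_eq_zero_or_one.1 he
  exact ⟨isIntegral_of_regular hreg, inferInstance, hreg⟩

theorem regular_spec {R : Type u} [CommRing R] [IsRegularRing R] (p : Spec (CommRingCat.of R)) :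
    IsRegularLocalRing ((Spec (CommRingCat.of R)).presheaf.stalk p) :=
  IsRegularLocalRing.of_ringEquiv
    (IsLocalization.algEquiv p.asIdeal.primeCompl (Localization.AtPrime p.asIdeal)
      ((Spec.structureSheaf R).presheaf.stalk p)).toRingEquiv

/-- valuative lifting for the relative Picard scheme -/
theorem exists_lift_dvr (σ : S ⟶ X) (hσ : σ ≫ f = 𝟙 S) (P : Over S) (φ : ∀ T : Over S, PicF.Cl (PicF.XT f T) → (T ⟶ P))
    (hP : AbDual.IsRelPicK Scheme.fppfPrecoverage f P φ) (R : Type u) [CommRing R] [IsDomain R] [IsDiscreteValuationRing R]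
    (b : Spec (CommRingCat.of R) ⟶ S)
    (gK : AbDual.ovr (Over.mk b) (Spec.map (CommRingCat.ofHom (algebraMap R (FractionRing R)))) ⟶ P) :
    ∃ gR : Over.mk b ⟶ P,
      AbDual.ovrHom (Over.mk b) (Spec.map (CommRingCat.ofHom (algebraMap R (FractionRing R)))) ≫ gR = gK := by
  obtain ⟨⟨c, hc, hcs⟩, hcg⟩ := (bijective_rig f σ hσ hP (bijective_app_of_connected f σ hσ) _).2 gK
  have hcg' : φ _ c = gK := hcg
  let j : Spec (CommRingCat.of (FractionRing R)) ⟶ Spec (CommRingCat.of R) :=
    Spec.map (CommRingCat.ofHom (algebraMap R (FractionRing R)))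
  let v := AbDual.ovrHom (Over.mk b) j
  haveI : IsOpenImmersion v.left := H9FlatCl.isOpenImmersion_generic R
  haveI : IsOpenImmersion (PicF.XTmap f v) :=
    MorphismProperty.of_isPullback (P := @IsOpenImmersion) (isPullback_XTmap f v).flip ‹_›
  obtain ⟨hi, hn, hr⟩ := integral_regular f σ hσ R b regular_spec
  haveI := hi; haveI := hn
  obtain ⟨z⟩ : Nonempty (Spec (CommRingCat.of (FractionRing R))) := inferInstance
  haveI : Nonempty (PicF.XT f (AbDual.ovr (Over.mk b) j)) := ⟨PicF.secT f σ hσ (AbDual.ovr (Over.mk b) j) z⟩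
  obtain ⟨d, hd, hdc⟩ := exists_pullback_open hr (PicF.XTmap f v) hc
  exact ⟨φ _ d, (hP.natural _ _ v d hd).symm.trans ((congrArg (φ _) hdc).trans hcg')⟩

end Groth.Agent.FppfPic

end
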