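import Groth.Agent.FppfPic.General
import Groth.Agent.PicClLib.Basic
import Groth.Agent.InvX.Tensor

/-!
Relative Picard classes descend.
-/

noncomputable section

set_option autoImplicit false
set_option linter.style.haveILetI false
set_option linter.unusedSectionVars false
set_option backward.isDefEq.respectTransparency false
set_option backward.isDefEq.respectTransparency.types false
set_option maxHeartbeats 1000000
set_option synthInstance.maxHeartbeats 400000
attribute [-instance] CategoryTheory.catToReflQuiver

universe u

open CategoryTheory CategoryTheory.Limits AlgebraicGeometry TopologicalSpace Opposite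

namespace Groth.Agent.FppfPic

variable {X S : Scheme.{u}} (f : X ⟶ S)

theorem bijective_snd_of_universal (ha : ∀ (T : Over S) (U : T.left.Opens), IsIso ((PicF.XTproj f T).app U))
    {T : Scheme.{u}} (t : T ⟶ S) : Function.Bijective (pullback.snd f t).appTop := by
  haveI := ha (Over.mk t) ⊤
  exact ConcreteCategory.bijective_of_isIso ((PicF.XTproj f (Over.mk t)).app ⊤)

theorem iso_of_cl {Y : Scheme.{u}} {A B : Y.Modules} (h : PicF.cl A = PicF.cl B) : Nonempty (A ≅ B) :=
  (PicGrp.cl_eq_cl_iff _ _).1 h

/-- invertible modules that are trivial fppf-locally on the base come from the base -/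
theorem exists_of_trivial (ha : ∀ (T : Over S) (U : T.left.Opens), IsIso ((PicF.XTproj f T).app U))
    (L : X.Modules) (hL : PicF.IsInvertible L) {S' : Scheme.{u}} (h : S' ⟶ S) [Flat h]
    [LocallyOfFinitePresentation h] [Surjective h]
    (htriv : PicF.IsTrivialCl (PicF.pullCl (pullback.fst f h) (PicF.cl L))) :
    ∃ N : S.Modules, PicF.IsInvertible N ∧ PicF.cl L = PicF.cl ((Scheme.Modules.pullback f).obj N) := by
  obtain ⟨e⟩ := iso_of_cl (B := Coh.structureModule (pullback f h)) htriv
  obtain ⟨N, hN, -, ⟨i⟩⟩ := exists_descend_fppf h f (L := Coh.structureModule S')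
    (InvX.isInvertible_structureModule (X := S')) hL
    ⟨(PicClLib.nonempty_pullback_structureModule _).some ≪≫ (PicClLib.nonempty_pullback_structureModule _).some.symm⟩
    ⟨(PicClLib.nonempty_pullback_structureModule _).some ≪≫ e.symm⟩
    (bijective_snd_of_universal f ha _) (bijective_snd_of_universal f ha _).1
  exact ⟨N, hN, (PicGrp.cl_eq_cl_iff _ _).2 ⟨i.symm⟩⟩

end Groth.Agent.FppfPic

end
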