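import Groth.Agent.FppfPic.FlatFunctions

/-!
Exactness of relative Picard classes along flat quasi-compact surjections.
-/

noncomputable section

set_option autoImplicit false
set_option linter.style.haveILetI false
set_option backward.isDefEq.respectTransparency false
set_option backward.isDefEq.respectTransparency.types false
set_option maxHeartbeats 1000000
set_option synthInstance.maxHeartbeats 400000
attribute [-instance] CategoryTheory.catToReflQuiver

universe u

open CategoryTheory CategoryTheory.Limits AlgebraicGeometry TopologicalSpace Opposite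
open Groth.Agent.H23.PicMul

namespace Groth.Agent.FppfPic

/-- descent of relative classes -/
theorem exists_descend_relative {X S S' : Scheme.{u}} (f : X ⟶ S) [QuasiCompact f] [QuasiSeparated f]
    (hf : ∀ U : S.Opens, Function.Bijective (f.app U)) (σ : S ⟶ X) (hσ : σ ≫ f = 𝟙 S)
    (g : S' ⟶ S) [Flat g] [Surjective g] [QuasiCompact g]
    (L' : (pullback f g).Modules) (hL' : PicF.IsInvertible L')
    (a₁ a₂ : pullback f (pullback.fst g g ≫ g) ⟶ pullback f g)
    (ha₁f : a₁ ≫ pullback.fst f g = pullback.fst f _) (ha₁s : a₁ ≫ pullback.snd f g = pullback.snd f _ ≫ pullback.fst g g)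
    (ha₂f : a₂ ≫ pullback.fst f g = pullback.fst f _) (ha₂s : a₂ ≫ pullback.snd f g = pullback.snd f _ ≫ pullback.snd g g)
    (N : (pullback g g).Modules)
    (hN : PicF.pullCl a₁ (PicF.cl L') = PicF.pullCl a₂ (PicF.cl L') *
      PicF.pullCl (pullback.snd f (pullback.fst g g ≫ g)) (PicF.cl N)) :
    ∃ (L : X.Modules) (N' : S'.Modules), PicF.IsInvertible L ∧ PicF.IsInvertible N' ∧
      PicF.cl L' = PicF.pullCl (pullback.fst f g) (PicF.cl L) * PicF.pullCl (pullback.snd f g) (PicF.cl N') := by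
  let pr₁ := pullback.fst g g
  let pr₂ := pullback.snd g g
  have hZ : IsPullback (pullback.fst f g) (pullback.snd f g) f g := IsPullback.of_hasPullback f g
  let s' : S' ⟶ pullback f g := pullback.lift (g ≫ σ) (𝟙 S') (by rw [Category.assoc, hσ, Category.comp_id, Category.id_comp])
  let s'' : pullback g g ⟶ pullback f (pr₁ ≫ g) :=
    pullback.lift ((pr₁ ≫ g) ≫ σ) (𝟙 _) (by rw [Category.assoc, hσ, Category.comp_id, Category.id_comp])
  have ss : s' ≫ pullback.snd f g = 𝟙 S' := pullback.lift_snd _ _ _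
  have e₁ : s'' ≫ a₁ = pr₁ ≫ s' := by
    refine hZ.hom_ext ?_ ?_
    · rw [Category.assoc, ha₁f, Category.assoc, pullback.lift_fst, pullback.lift_fst, Category.assoc]
    · rw [Category.assoc, ha₁s, ← Category.assoc, pullback.lift_snd, Category.id_comp, Category.assoc, ss,
        Category.comp_id]
  have e₂ : s'' ≫ a₂ = pr₂ ≫ s' := by
    refine hZ.hom_ext ?_ ?_
    · rw [Category.assoc, ha₂f, Category.assoc, pullback.lift_fst, pullback.lift_fst, Category.assoc,
        ← Category.assoc pr₁, ← Category.assoc pr₂, show pr₁ ≫ g = pr₂ ≫ g from pullback.condition]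
    · rw [Category.assoc, ha₂s, ← Category.assoc, pullback.lift_snd, Category.id_comp, Category.assoc, ss,
        Category.comp_id]
  -- the normalised class
  let A := PicF.pullCl s' (PicF.cl L')
  have hA : PicF.IsInvertibleCl A := ⟨_, rfl, PicClLib.isInvertible_pullback s' hL'⟩
  obtain ⟨⟨B, hB⟩, hBA⟩ := exists_inv (⟨A, hA⟩ : PicLoc.PicSet S')
  change B * A = 1 at hBA
  let c := PicF.cl L' * PicF.pullCl (pullback.snd f g) B
  obtain ⟨L'', hL''c, hL''⟩ : PicF.IsInvertibleCl c :=
    isInvertibleCl_mul ⟨L', rfl, hL'⟩ (by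
      obtain ⟨D, rfl, hD⟩ := hB
      exact ⟨_, rfl, PicClLib.isInvertible_pullback _ hD⟩)
  have hrig : PicF.pullCl s' (PicF.cl L'') = 1 := by
    rw [hL''c, pullCl_mul, PicClLib.pullCl_comp, ss, PicClLib.pullCl_id, mul_comm]
    exact hBA
  have hN' := congrArg (PicF.pullCl s'') hN
  rw [pullCl_mul, PicClLib.pullCl_comp, PicClLib.pullCl_comp, PicClLib.pullCl_comp, e₁, e₂,
    show s'' ≫ pullback.snd f (pr₁ ≫ g) = 𝟙 _ from pullback.lift_snd _ _ _, PicClLib.pullCl_id,
    ← PicClLib.pullCl_comp, ← PicClLib.pullCl_comp] at hN'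
  change PicF.pullCl pr₁ A = PicF.pullCl pr₂ A * PicF.cl N at hN'
  have hN'' : PicF.cl N * PicF.pullCl pr₁ B = PicF.pullCl pr₂ B := by
    have h₁ : PicF.pullCl pr₁ B * PicF.pullCl pr₁ A = 1 := by rw [← pullCl_mul, hBA, pullCl_one]
    have h₂ : PicF.pullCl pr₂ B * PicF.pullCl pr₂ A = 1 := by rw [← pullCl_mul, hBA, pullCl_one]
    rw [hN'] at h₁
    calc PicF.cl N * PicF.pullCl pr₁ B
        = (PicF.pullCl pr₂ B * PicF.pullCl pr₂ A) * (PicF.cl N * PicF.pullCl pr₁ B) := by rw [h₂, _root_.one_mul]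
      _ = PicF.pullCl pr₂ B * (PicF.pullCl pr₁ B * (PicF.pullCl pr₂ A * PicF.cl N)) := by ac_rfl
      _ = PicF.pullCl pr₂ B := by rw [h₁, _root_.mul_one]
  have hc₁₂ : PicF.pullCl a₁ c = PicF.pullCl a₂ c := by
    rw [pullCl_mul, pullCl_mul, PicClLib.pullCl_comp, PicClLib.pullCl_comp, ha₁s, ha₂s, hN, ← PicClLib.pullCl_comp,
      ← PicClLib.pullCl_comp, _root_.mul_assoc, ← pullCl_mul, hN'']
  -- transport to the double product
  obtain ⟨π₂, π₃, h₁, h₂, hm, -⟩ := exists_squares hZ
  let i := pullback.lift (f := f) (g := pr₁ ≫ g) (m2 (pullback.fst f g)) π₂ hm.w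
  have i₁ : i ≫ a₁ = pullback.fst _ _ := by
    refine hZ.hom_ext ?_ ?_
    · rw [Category.assoc, ha₁f, pullback.lift_fst]
    · rw [Category.assoc, ha₁s, ← Category.assoc, pullback.lift_snd]
      exact h₁.w.symm
  have i₂ : i ≫ a₂ = pullback.snd _ _ := by
    refine hZ.hom_ext ?_ ?_
    · rw [Category.assoc, ha₂f, pullback.lift_fst]
      exact pullback.condition
    · rw [Category.assoc, ha₂s, ← Category.assoc, pullback.lift_snd]
      exact h₂.w.symm
  obtain ⟨M, hM, hMp, -⟩ := exists_descend_rigid_fpqc (flatBij_of_base f hf) hZ σ hσ s' (pullback.lift_fst _ _ _) ss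
    hL'' hrig (by rw [← i₁, ← i₂, ← PicClLib.pullCl_comp, ← PicClLib.pullCl_comp, hL''c, hc₁₂])
  obtain ⟨N', hN'c, hN'i⟩ := hA
  refine ⟨M, N', hM, hN'i, ?_⟩
  rw [hMp, hL''c, hN'c]
  show PicF.cl L' = PicF.cl L' * PicF.pullCl (pullback.snd f g) B * PicF.pullCl (pullback.snd f g) A
  rw [_root_.mul_assoc, ← pullCl_mul, hBA, pullCl_one, _root_.mul_one]

end Groth.Agent.FppfPic

end
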