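import Groth.Agent.FppfPic.Sections
import Groth.Agent.KRRReg.BaseChange

/-!
Invariant frames for descent data along flat surjections locally of finite presentation.
-/

noncomputable section

set_option autoImplicit false
set_option linter.style.haveILetI false
set_option linter.unusedSectionVars false
set_option backward.isDefEq.respectTransparency false
set_option backward.isDefEq.respectTransparency.types false
set_option maxHeartbeats 1000000
set_option synthInstance.maxHeartbeats 400000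
attribute [-instance] CategoryTheory.catToReflQuiver

universe u

open CategoryTheory CategoryTheory.Limits AlgebraicGeometry TopologicalSpace Opposite Pseudofunctor Bicategory

namespace Groth.Agent.FppfPic

open Groth.Agent.AModX Groth.Agent.InvX Groth.Agent.AVTheta

variable {Z Y Z₀ U : Scheme.{u}} {p : Z ⟶ Y} {L : Z.Modules} {L₀ : Z₀.Modules}

/-- a datum restricted along a chart -/
def restrictDatum (D : Effective.Datum p L) (E : (⟨Z₀, L₀⟩ : SM.{u}) ⟶ ⟨Z, L⟩) (hE : IsCart E) (p₀ : Z₀ ⟶ U)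
    (ι : U ⟶ Y) [Mono ι] (hι : p₀ ≫ ι = E.base ≫ p) : Effective.Datum p₀ L₀ where
  R φ ψ := D.R (φ ≫ E) (ψ ≫ E)
  base_eq := fun {T M φ ψ} h => by
    have h' := D.base_eq h
    rw [CoGrothendieck.categoryStruct_comp_base, CoGrothendieck.categoryStruct_comp_base, Category.assoc,
      Category.assoc, ← hι, ← Category.assoc, ← Category.assoc, cancel_mono] at h'
    exact h'
  cart := fun {T M φ ψ} h hφ => isCart_of_comp hE (D.cart h (isCart_comp hφ hE))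
  exists_unique := fun {T M} φ hφ b hb => by
    obtain ⟨ψ', ⟨hψ'b, hψ'⟩, hu⟩ := D.exists_unique (φ ≫ E) (isCart_comp hφ hE) (b ≫ E.base) (by
      rw [CoGrothendieck.categoryStruct_comp_base, Category.assoc, Category.assoc, ← hι, ← Category.assoc, hb,
        Category.assoc])
    obtain ⟨ψ, ⟨hψb, hψ⟩, -⟩ := existsUnique_lift hE ψ' b hψ'b.symm
    refine ⟨ψ, ⟨hψb, by rw [hψ]; exact hψ'⟩, fun χ hχ => ?_⟩
    refine cancel_cart hE (hχ.1.trans hψb.symm) ?_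
    rw [hψ]
    exact hu _ ⟨by rw [CoGrothendieck.categoryStruct_comp_base, hχ.1], hχ.2⟩
  precomp := fun {T T' M M' φ ψ} τ hτ hφ h => by
    rw [Category.assoc, Category.assoc]
    exact D.precomp τ hτ (isCart_comp hφ hE) h
  trans := fun {T M φ ψ χ} hφ h h' => D.trans (isCart_comp hφ hE) h h'

/-- an invariant frame on a chart gives an invariant frame -/
theorem exists_invFrame_of_chart (D : Effective.Datum p L) (hL : PicF.IsInvertible L)
    (E : (⟨Z₀, L₀⟩ : SM.{u}) ⟶ ⟨Z, L⟩) (hE : IsCart E) [Flat (E.base ≫ p)]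
    [LocallyOfFinitePresentation (E.base ≫ p)] {V : Y.Opens} {B : Z₀.Opens}
    (hsurj : ∀ z : Z, p z ∈ V → ∃ b ∈ B, (E.base ≫ p) b = p z)
    {s₀ : Γ(L₀, B)} (hs₀ : IsFrame s₀)
    (hinv : ∀ (T : Scheme.{u}) (M : T.Modules) (φ ψ : (⟨T, M⟩ : SM.{u}) ⟶ ⟨Z₀, L₀⟩), IsCart φ →
      D.R (φ ≫ E) (ψ ≫ E) → ∀ (h₁ : ⊤ ≤ φ.base ⁻¹ᵁ B) (h₂ : ⊤ ≤ ψ.base ⁻¹ᵁ B) (m₁ m₂ : Γ(M, ⊤)),
        IsAct φ h₁ s₀ m₁ → IsAct ψ h₂ s₀ m₂ → m₁ = m₂) :
    ∃ s : Γ(L, p ⁻¹ᵁ V), IsFrame s ∧ Effective.IsInvSec D s := by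
  let A : Z.Opens := p ⁻¹ᵁ V
  let f : A.toScheme ⟶ Y := A.ι ≫ p
  let g : B.toScheme ⟶ Y := B.ι ≫ E.base ≫ p
  haveI : Surjective (pullback.fst f g) := ⟨fun a => by
    obtain ⟨b, hb, hbe⟩ := hsurj (A.ι a) a.2
    obtain ⟨x, hx, -⟩ := Scheme.Pullback.exists_preimage_pullback (f := f) (g := g) a ⟨b, hb⟩ hbe.symm
    exact ⟨x, hx⟩⟩
  haveI : Flat g := inferInstanceAs (Flat (B.ι ≫ E.base ≫ p))
  haveI : LocallyOfFinitePresentation g := inferInstanceAs (LocallyOfFinitePresentation (B.ι ≫ E.base ≫ p))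
  have hcov : FpqcDescLib.Covers (pullback.fst f g) :=
    FpqcDescLib.covers_of_isCovering (FpqcDescLib.isCovering_of_lfp _)
  let LA := (Scheme.Modules.pullback A.ι).obj L
  let jA : (⟨A.toScheme, LA⟩ : SM.{u}) ⟶ ⟨Z, L⟩ := mkHom A.ι (𝟙 _)
  have hjA : IsCart jA := isCart_mkHom _ _
  let F : (⟨pullback f g, (Scheme.Modules.pullback (pullback.fst f g)).obj LA⟩ : SM.{u}) ⟶ ⟨A.toScheme, LA⟩ :=
    mkHom (pullback.fst f g) (𝟙 _)
  have hF : IsCart F := isCart_mkHom _ _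
  let φ := F ≫ jA
  have hφ : IsCart φ := isCart_comp hF hjA
  let b₀ : pullback f g ⟶ Z₀ := pullback.snd f g ≫ B.ι
  obtain ⟨ψ₀, ⟨hψ₀b, hψ₀⟩, -⟩ := D.exists_unique φ hφ (b₀ ≫ E.base) (by
    show (pullback.fst f g ≫ A.ι) ≫ p = ((pullback.snd f g ≫ B.ι) ≫ E.base) ≫ p
    simp only [Category.assoc]
    exact pullback.condition)
  obtain ⟨χ, ⟨hχb, hχ⟩, -⟩ := existsUnique_lift hE ψ₀ b₀ hψ₀b.symm
  have hχc : IsCart χ := isCart_of_comp hE (by rw [hχ]; exact D.cart hψ₀ hφ)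
  have hχB : (⊤ : (pullback f g).Opens) ≤ χ.base ⁻¹ᵁ B := fun x _ => by
    show χ.base x ∈ B
    rw [hχb]
    exact (pullback.snd f g x).2
  obtain ⟨m, hm, -⟩ := exists_act hχc hχB s₀
  -- the same section for two points with related images
  have hrel : ∀ (T : Scheme.{u}) (M : T.Modules) (α β : (⟨T, M⟩ : SM.{u}) ⟶
      ⟨pullback f g, (Scheme.Modules.pullback (pullback.fst f g)).obj LA⟩), IsCart α → IsCart β →
      D.R (α ≫ φ) (β ≫ φ) → ∀ m₁ m₂ : Γ(M, ⊤), IsAct α (Effective.topLe α.base) m m₁ →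
        IsAct β (Effective.topLe β.base) m m₂ → m₁ = m₂ := by
    intro T M α β hα hβ hR m₁ m₂ h₁ h₂
    have r₁ := D.precomp α hα hφ hψ₀
    have r₂ := D.precomp β hβ hφ hψ₀
    have hαφ := isCart_comp hα hφ
    have hr := D.trans (D.cart r₁ hαφ) (D.trans (D.cart r₁ hαφ) (D.symm hαφ r₁) hR) r₂
    rw [← hχ, ← Category.assoc, ← Category.assoc] at hr
    have lα : (⊤ : T.Opens) ≤ (α ≫ χ).base ⁻¹ᵁ B := fun x _ => hχB (show α.base x ∈ (⊤ : (pullback f g).Opens) from trivial)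
    have lβ : (⊤ : T.Opens) ≤ (β ≫ χ).base ⁻¹ᵁ B := fun x _ => hχB (show β.base x ∈ (⊤ : (pullback f g).Opens) from trivial)
    exact hinv T M _ _ (isCart_comp hα hχc) hr lα lβ m₁ m₂ (act_comp χ hm h₁ lα) (act_comp χ hm h₂ lβ)
  obtain ⟨sA, hsA, hsAm⟩ := exists_desc_sec F hF hcov (PicClLib.isInvertible_pullback A.ι hL)
    (isFrame_of_act hχc hs₀ hm) fun T M α β hα hβ e => hrel T M α β hα hβ (by
      have h : α ≫ φ = β ≫ φ := by rw [← Category.assoc, e, Category.assoc]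
      rw [h]
      exact D.refl _ (isCart_comp hβ hφ))
  obtain ⟨s, hs⟩ := (KRRReg.bijective_pullSec_ι A L).2 sA
  have hAj : (⊤ : A.toScheme.Opens) ≤ jA.base ⁻¹ᵁ A := A.ι_preimage_self.ge
  have hact : IsAct jA hAj s sA := hs.symm
  refine ⟨s, H23.TrivBasic.isFrame_of_germwise fun z hz => ?_, ?_⟩
  · obtain ⟨O, hzO, e, he⟩ := InvX.exists_frame hL z
    refine ⟨A ⊓ O, inf_le_left, ⟨hz, hzO⟩, ?_⟩
    obtain ⟨r, hr⟩ := he.exists_coord inf_le_right (res L (inf_le_left : A ⊓ O ≤ A) s)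
    rw [hr]
    refine (he.res _).isUnit_smul ?_
    let O' := jA.base ⁻¹ᵁ (A ⊓ O)
    obtain ⟨x, hx, -⟩ := exists_act hjA (le_refl O') (res L (inf_le_right : A ⊓ O ≤ O) e)
    have a := act_res (inf_le_left : A ⊓ O ≤ A) (le_top : O' ≤ ⊤) le_rfl hact
    rw [hr] at a
    have hfr := hsA.res (le_top : O' ≤ ⊤)
    have hxf := isFrame_of_act hjA (he.res _) hx
    rw [act_unique hjA a (act_smul r hx)] at hfr
    obtain ⟨k, hk⟩ := hfr.exists_coord le_rfl x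
    rw [res_self] at hk
    have hu : IsUnit (jA.base.appLE (A ⊓ O) O' le_rfl r) := IsUnit.of_mul_eq_one k (hxf.coord_unique le_rfl (by
      rw [res_self, mul_comm, mul_smul, one_smul]
      exact hk.symm))
    haveI : IsIso (jA.base.app (A ⊓ O)) := A.ι.isIso_app (A ⊓ O) (inf_le_left.trans A.opensRange_ι.ge)
    rw [← Scheme.Hom.app_eq_appLE] at hu
    have := hu.map (inv (jA.base.app (A ⊓ O))).hom
    rwa [← ConcreteCategory.comp_apply, IsIso.hom_inv_id] at this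
  · intro T M φ₁ φ₂ hφ₁ hR h₁ h₂ m₁ m₂ a₁ a₂
    have hφ₂ := D.cart hR hφ₁
    let a : T ⟶ A.toScheme := IsOpenImmersion.lift A.ι φ₁.base (by
      rw [Scheme.Opens.range_ι]; rintro _ ⟨t, rfl⟩; exact h₁ (show t ∈ (⊤ : T.Opens) from trivial))
    let a' : T ⟶ A.toScheme := IsOpenImmersion.lift A.ι φ₂.base (by
      rw [Scheme.Opens.range_ι]; rintro _ ⟨t, rfl⟩; exact h₂ (show t ∈ (⊤ : T.Opens) from trivial))
    have ha : a ≫ A.ι = φ₁.base := IsOpenImmersion.lift_fac _ _ _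
    have ha' : a' ≫ A.ι = φ₂.base := IsOpenImmersion.lift_fac _ _ _
    let σ := pullback.fst a (pullback.fst f g)
    let u := pullback.snd a (pullback.fst f g)
    let τ := mkHom (M := (Scheme.Modules.pullback σ).obj M) (N := M) σ (𝟙 _)
    have hτ : IsCart τ := isCart_mkHom _ _
    obtain ⟨θ₁, ⟨hθ₁b, hθ₁⟩, -⟩ := existsUnique_lift hφ (τ ≫ φ₁) u (by
      show u ≫ pullback.fst f g ≫ A.ι = σ ≫ φ₁.base
      rw [← ha, ← Category.assoc, ← pullback.condition, Category.assoc])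
    let w : pullback a (pullback.fst f g) ⟶ pullback f g := pullback.lift (σ ≫ a') (u ≫ pullback.snd f g) (by
      have hb := D.base_eq hR
      rw [← ha, ← ha', Category.assoc, Category.assoc] at hb
      rw [Category.assoc, Category.assoc]
      refine (congrArg (σ ≫ ·) hb.symm).trans ?_
      rw [← Category.assoc σ, pullback.condition, Category.assoc]
      exact congrArg (u ≫ ·) pullback.condition)
    obtain ⟨θ₂, ⟨hθ₂b, hθ₂⟩, -⟩ := existsUnique_lift hφ (τ ≫ φ₂) w (by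
      show w ≫ pullback.fst f g ≫ A.ι = σ ≫ φ₂.base
      rw [← ha', ← Category.assoc, pullback.lift_fst, Category.assoc])
    have hθ₁c : IsCart θ₁ := isCart_of_comp hφ (by rw [hθ₁]; exact isCart_comp hτ hφ₁)
    have hθ₂c : IsCart θ₂ := isCart_of_comp hφ (by rw [hθ₂]; exact isCart_comp hτ hφ₂)
    obtain ⟨n₁, hn₁, -⟩ := exists_act hθ₁c (Effective.topLe θ₁.base) m
    obtain ⟨n₂, hn₂, -⟩ := exists_act hθ₂c (Effective.topLe θ₂.base) m
    have hn := hrel _ _ θ₁ θ₂ hθ₁c hθ₂c (by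
      rw [hθ₁, hθ₂]
      exact D.precomp τ hτ hφ₁ hR) n₁ n₂ hn₁ hn₂
    subst hn
    have hlφ : (⊤ : (pullback f g).Opens) ≤ φ.base ⁻¹ᵁ A := fun x _ => (pullback.fst f g x).2
    have hmφ : IsAct φ hlφ s m := act_comp jA hact hsAm _
    have side : ∀ (φ' : (⟨T, M⟩ : SM.{u}) ⟶ ⟨Z, L⟩) (θ : (⟨_, (Scheme.Modules.pullback σ).obj M⟩ : SM.{u}) ⟶
        ⟨pullback f g, (Scheme.Modules.pullback (pullback.fst f g)).obj LA⟩) (h : ⊤ ≤ φ'.base ⁻¹ᵁ A) (n : Γ(M, ⊤)),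
        IsCart φ' → θ ≫ φ = τ ≫ φ' → IsAct φ' h s n → IsAct θ (Effective.topLe θ.base) m n₁ →
          IsAct τ (le_refl (τ.base ⁻¹ᵁ ⊤)) n n₁ := by
      intro φ' θ h n hφ' e hn hθ
      obtain ⟨x, hx, -⟩ := exists_act hτ (le_refl (τ.base ⁻¹ᵁ ⊤)) n
      have hle : (⊤ : (pullback a (pullback.fst f g)).Opens) ≤ (τ ≫ φ').base ⁻¹ᵁ A := fun y _ =>
        h (show τ.base y ∈ (⊤ : T.Opens) from trivial)
      have h1 := act_comp φ' hn hx hle
      have h2 := act_congr e hle (act_comp φ hmφ hθ (fun y _ => hlφ (show θ.base y ∈ (⊤ : (pullback f g).Opens) from trivial)))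
      rwa [act_unique (isCart_comp hτ hφ') h2 h1]
    refine sec_injective τ hτ (hcov.pullback a _ _ (IsPullback.of_hasPullback a (pullback.fst f g))) ?_
      (side φ₁ θ₁ h₁ m₁ hφ₁ hθ₁ a₁ hn₁) (side φ₂ θ₂ h₂ m₂ hφ₂ hθ₂ a₂ hn₂)
    exact isInvertible_source hφ₁ hL

/-- near every point of the base there is an invariant frame -/
theorem exists_invariant_frame (D : Effective.Datum p L) [Flat p] [Surjective p] [LocallyOfFinitePresentation p]
    (hL : PicF.IsInvertible L) (y : Y) :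
    ∃ V : Y.Opens, y ∈ V ∧ ∃ s : Γ(L, p ⁻¹ᵁ V), IsFrame s ∧ Effective.IsInvSec D s := by
  classical
  obtain ⟨W, hW, hyW, -⟩ := exists_isAffineOpen_mem_and_subset (show y ∈ (⊤ : Y.Opens) from trivial)
  have hloc : ∀ z : (p ⁻¹ᵁ W : Z.Opens), ∃ O : Z.Opens, IsAffineOpen O ∧ z.1 ∈ O ∧ O ≤ p ⁻¹ᵁ W := fun z => by
    obtain ⟨O, hO, hzO, hle⟩ := exists_isAffineOpen_mem_and_subset (show z.1 ∈ p ⁻¹ᵁ W from z.2)
    exact ⟨O, hO, hzO, hle⟩
  choose O hO hzO hOW using hloc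
  obtain ⟨fs, hfs⟩ := hW.isCompact.elim_finite_subcover (fun z => p '' (O z : Set Z))
    (fun z => p.isOpenMap _ (O z).2) (fun v hv => by
      obtain ⟨z, rfl⟩ := p.surjective v
      exact Set.mem_iUnion.2 ⟨⟨z, hv⟩, z, hzO ⟨z, hv⟩, rfl⟩)
  let X : fs → Scheme.{u} := fun z => (O z.1).toScheme
  haveI : ∀ z, IsAffine (X z) := fun z => hO z.1
  let w : (∐ X) ⟶ Z := Sigma.desc fun z => (O z.1).ι
  have hw : Set.range (w ≫ p) ⊆ Set.range W.ι := by
    rintro _ ⟨x, rfl⟩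
    obtain ⟨z, x', rfl⟩ := (sigmaOpenCover X).exists_eq x
    rw [Scheme.Opens.range_ι, ← Scheme.Hom.comp_apply]
    show (Sigma.ι X z ≫ w ≫ p) x' ∈ W
    rw [← Category.assoc, Sigma.ι_desc]
    exact hOW z.1 x'.2
  haveI : Flat (w ≫ p) := by
    rw [IsZariskiLocalAtSource.iff_of_openCover (P := @Flat) (sigmaOpenCover X)]
    intro z
    show Flat (Sigma.ι X z ≫ w ≫ p)
    rw [← Category.assoc, Sigma.ι_desc]
    infer_instance
  haveI : LocallyOfFinitePresentation (w ≫ p) := by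
    rw [IsZariskiLocalAtSource.iff_of_openCover (P := @LocallyOfFinitePresentation) (sigmaOpenCover X)]
    intro z
    show LocallyOfFinitePresentation (Sigma.ι X z ≫ w ≫ p)
    rw [← Category.assoc, Sigma.ι_desc]
    infer_instance
  let p₀ : (∐ X) ⟶ W.toScheme := IsOpenImmersion.lift W.ι (w ≫ p) hw
  have hp₀ : p₀ ≫ W.ι = w ≫ p := IsOpenImmersion.lift_fac _ _ _
  haveI : Flat p₀ := by
    haveI : Flat (p₀ ≫ W.ι) := by rw [hp₀]; infer_instance
    exact MorphismProperty.of_postcomp (W := @Flat) (W' := @IsOpenImmersion) p₀ W.ι inferInstance ‹_›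
  haveI : Surjective p₀ := ⟨fun v => by
    obtain ⟨z, hz, hzv⟩ := Set.mem_iUnion₂.1 (hfs v.2)
    obtain ⟨x, hx, hxv⟩ := hzv
    refine ⟨Sigma.ι X ⟨z, hz⟩ ⟨x, hx⟩, W.ι.isOpenEmbedding.injective ?_⟩
    rw [← Scheme.Hom.comp_apply, hp₀, ← Scheme.Hom.comp_apply, ← Category.assoc, Sigma.ι_desc]
    exact hxv⟩
  haveI : IsAffine W.toScheme := hW
  haveI : QuasiCompact p₀ := inferInstance
  let E : (⟨∐ X, (Scheme.Modules.pullback w).obj L⟩ : SM.{u}) ⟶ ⟨Z, L⟩ := mkHom w (𝟙 _)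
  have hE : IsCart E := isCart_mkHom _ _
  let D₀ := restrictDatum D E hE p₀ W.ι hp₀
  obtain ⟨V₀, hy₀, s₀, hs₀, hinv⟩ := Effective.exists_invariant_frame D₀ (PicClLib.isInvertible_pullback w hL) ⟨y, hyW⟩
  have hV : ∀ b, (E.base ≫ p) b ∈ W.ι ''ᵁ V₀ ↔ p₀ b ∈ V₀ := fun b => by
    rw [show (E.base ≫ p) b = W.ι (p₀ b) from congr($(hp₀.symm) b)]
    exact W.ι.isOpenEmbedding.injective.mem_set_image
  haveI : Flat (E.base ≫ p) := inferInstanceAs (Flat (w ≫ p))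
  haveI : LocallyOfFinitePresentation (E.base ≫ p) := inferInstanceAs (LocallyOfFinitePresentation (w ≫ p))
  refine ⟨W.ι ''ᵁ V₀, ⟨⟨y, hyW⟩, hy₀, rfl⟩, ?_⟩
  refine exists_invFrame_of_chart D hL E hE (fun z hz => ?_) hs₀
    fun T M φ ψ hφ hR => hinv T M φ ψ hφ hR
  obtain ⟨v, hv, hvz⟩ := hz
  obtain ⟨b, rfl⟩ := p₀.surjective v
  exact ⟨b, hv, congr($(hp₀.symm) b).trans hvz⟩

end Groth.Agent.FppfPic

end
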