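import Groth.Agent.FppfPic.Rigid
import Mathlib.AlgebraicGeometry.Morphisms.Flat

/-!
Functions on the base are preserved by flat base change.
-/

noncomputable section

set_option autoImplicit false
set_option linter.style.haveILetI false
set_option backward.isDefEq.respectTransparency false
set_option backward.isDefEq.respectTransparency.types false
set_option maxHeartbeats 1000000
set_option synthInstance.maxHeartbeats 400000
attribute [-instance] CategoryTheory.catToReflQuiver

universe u

open CategoryTheory CategoryTheory.Limits AlgebraicGeometry TopologicalSpace Opposite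

namespace Groth.Agent.FppfPic

open Groth.Agent.AModX

variable {X S : Scheme.{u}} (f : X ⟶ S) [QuasiCompact f] [QuasiSeparated f]

/-- over a small affine of a flat base, functions come from the base -/
theorem bijective_app_small (hf : ∀ U : S.Opens, Function.Bijective (f.app U)) {Q Q' : Scheme.{u}} {m : Q ⟶ X}
    {π : Q ⟶ Q'} {v : Q' ⟶ S} [Flat v] (h : IsPullback m π f v) {U : S.Opens} (hU : IsAffineOpen U)
    {U' : Q'.Opens} (hU' : IsAffineOpen U') (hle : U' ≤ v ⁻¹ᵁ U) : Function.Bijective (π.app U') := by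
  have hY : π ⁻¹ᵁ U' = m ⁻¹ᵁ (f ⁻¹ᵁ U) ⊓ π ⁻¹ᵁ U' := by
    refine (inf_eq_right.2 fun q hq => ?_).symm
    show f (m q) ∈ U
    rw [show f (m q) = v (π q) from congr($(h.w) q)]
    exact hle hq
  have hiso := isIso_pushoutSection_of_isQuasiSeparated_of_flat_right h hle (le_refl (f ⁻¹ᵁ U)) hY hU hU'
    (f.isCompact_preimage hU.isCompact) (f.isQuasiSeparated_preimage hU.isQuasiSeparated)
  have po := (isIso_pushoutSection_iff h hle (le_refl (f ⁻¹ᵁ U)) hY).1 hiso
  haveI : IsIso (f.appLE U (f ⁻¹ᵁ U) le_rfl) := by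
    rw [← Scheme.Hom.app_eq_appLE]
    exact (ConcreteCategory.isIso_iff_bijective _).2 (hf U)
  haveI := po.isIso_inr_of_isIso
  rw [Scheme.Hom.app_eq_appLE]
  exact ConcreteCategory.bijective_of_isIso _

/-- flat base change preserves "functions come from the base" -/
theorem flatBij_of_base (hf : ∀ U : S.Opens, Function.Bijective (f.app U)) : FlatBij f := by
  intro Q Q' m π v h hv
  have hex : ∀ q : Q', ∃ U' : Q'.Opens, q ∈ U' ∧ IsAffineOpen U' ∧ ∃ U : S.Opens, IsAffineOpen U ∧ U' ≤ v ⁻¹ᵁ U := by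
    intro q
    obtain ⟨U, hU, hqU, -⟩ := exists_isAffineOpen_mem_and_subset (show v q ∈ (⊤ : S.Opens) from trivial)
    obtain ⟨U', hU', hq, hle⟩ := exists_isAffineOpen_mem_and_subset (show q ∈ v ⁻¹ᵁ U from hqU)
    exact ⟨U', hq, hU', U, hU, hle⟩
  choose U' hq hU' U hU hle using hex
  have inj : ∀ W : Q'.Opens, Function.Injective (π.app W) := by
    intro W c d hcd
    refine eq_of_locally (M := Coh.structureModule Q') _ _ fun q hqW => ?_
    obtain ⟨O, hO, hqO, hOle⟩ := exists_isAffineOpen_mem_and_subset (show q ∈ W ⊓ U' q from ⟨hqW, hq q⟩)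
    refine ⟨O, fun x hx => (hOle hx).1, hqO, ?_⟩
    refine (bijective_app_small f hf h (hU q) hO (fun x hx => hle q (hOle hx).2)).1 ?_
    show π.app O (resR _ c) = π.app O (resR _ d)
    rw [← PicGlue.app_resR, ← PicGlue.app_resR, hcd]
  refine ⟨inj ⊤, fun c => ?_⟩
  choose d hd using fun q => (bijective_app_small f hf h (hU q) (hU' q) (hle q)).2
    (resR (le_top : π ⁻¹ᵁ U' q ≤ ⊤) c)
  obtain ⟨e, he, -⟩ := existsUnique_glue (M := Coh.structureModule Q') (V := (⊤ : Q'.Opens)) U' (fun _ => le_top)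
    (fun q _ => ⟨q, hq q⟩) d fun q q' => by
      refine inj (U' q ⊓ U' q') ?_
      show π.app _ (resR inf_le_left (d q)) = π.app _ (resR inf_le_right (d q'))
      rw [← PicGlue.app_resR, ← PicGlue.app_resR, hd, hd, resR_resR, resR_resR]
  refine ⟨e, eq_of_locally (M := Coh.structureModule Q) _ _ fun x _ => ⟨π ⁻¹ᵁ U' (π x), le_top, hq (π x), ?_⟩⟩
  show resR _ (π.app ⊤ e) = resR _ c
  rw [← hd (π x), ← show resR le_top e = d (π x) from he (π x)]
  exact PicGlue.app_resR π le_top e

end Groth.Agent.FppfPic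

end
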