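import Groth.Agent.FppfPic.PairDatum
import Groth.Agent.FppfPic.Extension

/-!
Descent of invertible modules that are normalised along an auxiliary base change.
-/

noncomputable section

set_option autoImplicit false
set_option linter.style.haveILetI false
set_option linter.unusedSectionVars false
set_option backward.isDefEq.respectTransparency false
set_option backward.isDefEq.respectTransparency.types false
set_option maxHeartbeats 1000000
set_option synthInstance.maxHeartbeats 400000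
attribute [-instance] CategoryTheory.catToReflQuiver

universe u

open CategoryTheory CategoryTheory.Limits AlgebraicGeometry TopologicalSpace Opposite Pseudofunctor Bicategory

namespace Groth.Agent.FppfPic

open Groth.Agent.AModX Groth.Agent.InvX Groth.Agent.AVTheta

variable {Z Y Y₀ : Scheme.{u}} (p : Z ⟶ Y) (j : Y₀ ⟶ Y)

theorem comp_base_eq {a b c : SM.{u}} (f : a ⟶ b) (g : b ⟶ c) : (f ≫ g).base = f.base ≫ g.base :=
  CoGrothendieck.categoryStruct_comp_base f g

/-- the projection from the double product to the base -/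
abbrev m2 : pullback p p ⟶ Y := pullback.fst p p ≫ p

/-- the projection from the triple product to the base -/
abbrev m3 : Q3 p ⟶ Y := pullback.fst _ _ ≫ m2 p

theorem snd_m2 : pullback.snd (pullback.snd p p) (pullback.fst p p) ≫ m2 p = m3 p := by
  rw [m2, ← Category.assoc, ← pullback.condition, Category.assoc, ← pullback.condition]

theorem out3_m2 : out3 p ≫ m2 p = m3 p := by
  rw [m3, m2, ← Category.assoc, pullback.lift_fst, Category.assoc]

/-- a scalar by a unit is cartesian -/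
theorem isCart_sc (a : SM.{u}) {c : Γ(a.base, ⊤)} (hc : IsUnit c) : IsCart (sc a c) := by
  obtain ⟨u, rfl⟩ := hc
  exact isCart_iso (⟨sc a u, sc a ↑u⁻¹, by rw [sc_mul, Units.inv_mul, sc_one],
    by rw [sc_mul, Units.mul_inv, sc_one]⟩ : a ≅ a)

/-- an identification of the two pullbacks normalised along the auxiliary base change, with the cocycle identity -/
theorem exists_pair {L : Z.Modules} (hL : PicF.IsInvertible L) {L₀ : Y₀.Modules}
    (eiso : Nonempty ((Scheme.Modules.pullback (pullback.fst p p)).obj L ≅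
      (Scheme.Modules.pullback (pullback.snd p p)).obj L))
    (enorm : (Scheme.Modules.pullback (pullback.snd j p)).obj L ≅ (Scheme.Modules.pullback (pullback.fst j p)).obj L₀)
    (hbij : Function.Bijective (pullback.snd j (m2 p)).appTop)
    (hinj : Function.Injective (pullback.snd j (m3 p)).appTop) :
    ∃ (N : (pullback p p).Modules) (π₁ π₂ : (⟨pullback p p, N⟩ : SM.{u}) ⟶ ⟨Z, L⟩),
      IsCart π₁ ∧ IsCart π₂ ∧ π₁.base = pullback.fst p p ∧ π₂.base = pullback.snd p p ∧ IsCocycle π₁ π₂ ∧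
      ∀ (R : Scheme.{u}) (a b : R ⟶ pullback j p), a ≫ pullback.fst j p = b ≫ pullback.fst j p →
        ∃ (M : R.Modules) (α β : (⟨R, M⟩ : SM.{u}) ⟶ ⟨pullback j p, (Scheme.Modules.pullback (pullback.snd j p)).obj L⟩)
          (χ : (⟨R, M⟩ : SM.{u}) ⟶ ⟨pullback p p, N⟩),
          IsCart α ∧ IsCart β ∧ α.base = a ∧ β.base = b ∧
          α ≫ mkHom (N := L₀) (pullback.fst j p) enorm.hom = β ≫ mkHom (N := L₀) (pullback.fst j p) enorm.hom ∧
          α ≫ mkHom (N := L) (pullback.snd j p) (𝟙 _) = χ ≫ π₁ ∧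
          β ≫ mkHom (N := L) (pullback.snd j p) (𝟙 _) = χ ≫ π₂ := by
  obtain ⟨e⟩ := eiso
  let F : (⟨pullback j p, (Scheme.Modules.pullback (pullback.snd j p)).obj L⟩ : SM.{u}) ⟶ ⟨Z, L⟩ :=
    mkHom (pullback.snd j p) (𝟙 _)
  have hF : IsCart F := isCart_mkHom _ _
  let q : (⟨pullback j p, (Scheme.Modules.pullback (pullback.snd j p)).obj L⟩ : SM.{u}) ⟶ ⟨Y₀, L₀⟩ :=
    mkHom (pullback.fst j p) enorm.hom
  have hq : IsCart q := @isCart_mkHom _ _ _ _ _ enorm.hom enorm.isIso_hom
  let g₁b : pullback j (m2 p) ⟶ pullback j p :=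
    pullback.lift (pullback.fst j (m2 p)) (pullback.snd j (m2 p) ≫ pullback.fst p p) (by
      rw [Category.assoc]; exact pullback.condition)
  let g₂b : pullback j (m2 p) ⟶ pullback j p :=
    pullback.lift (pullback.fst j (m2 p)) (pullback.snd j (m2 p) ≫ pullback.snd p p) (by
      rw [Category.assoc, ← pullback.condition]; exact pullback.condition)
  let g₁ := mkHom (M := (Scheme.Modules.pullback g₁b).obj ((Scheme.Modules.pullback (pullback.snd j p)).obj L))
    (N := (Scheme.Modules.pullback (pullback.snd j p)).obj L) g₁b (𝟙 _)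
  have hg₁ : IsCart g₁ := isCart_mkHom _ _
  obtain ⟨g₂, ⟨hg₂b, hg₂⟩, -⟩ := existsUnique_lift hq (g₁ ≫ q) g₂b (by
    rw [comp_base_eq]
    exact (pullback.lift_fst _ _ _).trans (pullback.lift_fst _ _ _).symm)
  have hg₂c : IsCart g₂ := isCart_of_comp hq (by rw [hg₂]; exact isCart_comp hg₁ hq)
  let π₁ : (⟨pullback p p, (Scheme.Modules.pullback (pullback.fst p p)).obj L⟩ : SM.{u}) ⟶ ⟨Z, L⟩ :=
    mkHom (pullback.fst p p) (𝟙 _)
  have hπ₁ : IsCart π₁ := isCart_mkHom _ _
  let π' : (⟨pullback p p, (Scheme.Modules.pullback (pullback.fst p p)).obj L⟩ : SM.{u}) ⟶ ⟨Z, L⟩ :=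
    mkHom (pullback.snd p p) e.hom
  have hπ' : IsCart π' := @isCart_mkHom _ _ _ _ _ e.hom e.isIso_hom
  obtain ⟨h, ⟨hhb, hh⟩, -⟩ := existsUnique_lift hπ₁ (g₁ ≫ F) (pullback.snd j (m2 p)) (by
    rw [comp_base_eq]
    exact (pullback.lift_snd _ _ _).symm)
  have hhc : IsCart h := isCart_of_comp hπ₁ (by rw [hh]; exact isCart_comp hg₁ hF)
  obtain ⟨c, hc, hcA⟩ := exists_scalar (isInvertible_source (isCart_comp hg₁ hF) hL) (isCart_comp hg₂c hF)
    (isCart_comp hhc hπ') (by
      rw [comp_base_eq, comp_base_eq, hg₂b, hhb]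
      exact pullback.lift_snd _ _ _)
  obtain ⟨u, hu⟩ : ∃ u, h.base.appTop u = c := by rw [hhb]; exact hbij.2 c
  have huu : IsUnit u := by
    obtain ⟨d, hd⟩ := hc.exists_right_inv
    obtain ⟨v, hv⟩ : ∃ v, h.base.appTop v = d := by rw [hhb]; exact hbij.2 d
    have hi : Function.Injective h.base.appTop := by rw [hhb]; exact hbij.1
    exact IsUnit.of_mul_eq_one v (hi (by rw [map_mul, map_one, hu, hv, hd]))
  obtain ⟨π₂, hπ₂, hπ₂b, hh₂⟩ : ∃ π₂ : (⟨pullback p p, (Scheme.Modules.pullback (pullback.fst p p)).obj L⟩ : SM.{u}) ⟶ ⟨Z, L⟩,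
      IsCart π₂ ∧ π₂.base = pullback.snd p p ∧ h ≫ π₂ = g₂ ≫ F := by
    refine ⟨sc _ u ≫ π', isCart_comp (isCart_sc _ huu) hπ', ?_, ?_⟩
    · rw [comp_base_eq, sc_base]
      exact Category.id_comp _
    · rw [← Category.assoc, ← sc_comp_eq, hu, Category.assoc, hcA]
  refine ⟨_, π₁, π₂, hπ₁, hπ₂, rfl, hπ₂b, ?_, ?_⟩
  · refine isCocycle_of_universal hπ₁ hπ₂ rfl hπ₂b fun M k₁₂ k₂₃ k₁₃ hk hb₁₂ hb₂₃ hb₁₃ e₁ e₂ => ?_
    let s₃ := mkHom (M := (Scheme.Modules.pullback (pullback.snd j (m3 p))).obj M) (N := M)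
      (pullback.snd j (m3 p)) (𝟙 _)
    have hs₃ : IsCart s₃ := isCart_mkHom _ _
    have hNinv := PicClLib.isInvertible_pullback (pullback.fst p p) hL
    have lift' : ∀ (k : (⟨Q3 p, M⟩ : SM.{u}) ⟶ ⟨pullback p p, (Scheme.Modules.pullback (pullback.fst p p)).obj L⟩),
        k.base ≫ m2 p = m3 p → ∃ l : (⟨_, (Scheme.Modules.pullback (pullback.snd j (m3 p))).obj M⟩ : SM.{u}) ⟶
          ⟨pullback j (m2 p), (Scheme.Modules.pullback g₁b).obj ((Scheme.Modules.pullback (pullback.snd j p)).obj L)⟩,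
          l ≫ h = s₃ ≫ k ∧ l.base ≫ pullback.fst j (m2 p) = pullback.fst j (m3 p) ∧
          l.base ≫ pullback.snd j (m2 p) = pullback.snd j (m3 p) ≫ k.base := by
      intro k hk
      obtain ⟨l, ⟨hlb, hl⟩, -⟩ := existsUnique_lift hhc (s₃ ≫ k)
        (pullback.lift (pullback.fst j (m3 p)) (pullback.snd j (m3 p) ≫ k.base) (by
          rw [Category.assoc, hk]; exact pullback.condition))
        ((congrArg _ hhb).trans ((pullback.lift_snd _ _ _).trans (comp_base_eq s₃ k).symm))
      refine ⟨l, hl, ?_, ?_⟩ <;> rw [hlb]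
      · exact pullback.lift_fst _ _ _
      · exact pullback.lift_snd _ _ _
    obtain ⟨l₁₂, hl₁₂, hf₁₂, hs₁₂⟩ := lift' k₁₂ (by rw [hb₁₂])
    obtain ⟨l₂₃, hl₂₃, hf₂₃, hs₂₃⟩ := lift' k₂₃ (by rw [hb₂₃]; exact snd_m2 p)
    obtain ⟨l₁₃, hl₁₃, hf₁₃, hs₁₃⟩ := lift' k₁₃ (by rw [hb₁₃]; exact out3_m2 p)
    -- equalities on the auxiliary triple product
    have bb : ∀ (l l' : (⟨_, (Scheme.Modules.pullback (pullback.snd j (m3 p))).obj M⟩ : SM.{u}) ⟶
          ⟨pullback j (m2 p), (Scheme.Modules.pullback g₁b).obj ((Scheme.Modules.pullback (pullback.snd j p)).obj L)⟩)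
        (k k' : Q3 p ⟶ pullback p p) (pr pr' : pullback p p ⟶ Z) (g g' : pullback j (m2 p) ⟶ pullback j p),
        l.base ≫ pullback.fst j (m2 p) = pullback.fst j (m3 p) → l'.base ≫ pullback.fst j (m2 p) = pullback.fst j (m3 p) →
        l.base ≫ pullback.snd j (m2 p) = pullback.snd j (m3 p) ≫ k →
        l'.base ≫ pullback.snd j (m2 p) = pullback.snd j (m3 p) ≫ k' →
        g ≫ pullback.fst j p = pullback.fst j (m2 p) → g' ≫ pullback.fst j p = pullback.fst j (m2 p) →
        g ≫ pullback.snd j p = pullback.snd j (m2 p) ≫ pr → g' ≫ pullback.snd j p = pullback.snd j (m2 p) ≫ pr' →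
        k ≫ pr = k' ≫ pr' → l.base ≫ g = l'.base ≫ g' := by
      intro l l' k k' pr pr' g g' a₁ a₂ a₃ a₄ a₅ a₆ a₇ a₈ a₉
      refine pullback.hom_ext ?_ ?_
      · rw [Category.assoc, Category.assoc, a₅, a₆, a₁, a₂]
      · rw [Category.assoc, Category.assoc, a₇, a₈, ← Category.assoc, ← Category.assoc, a₃, a₄, Category.assoc,
          Category.assoc, a₉]
    have f₁ : g₁b ≫ pullback.fst j p = pullback.fst j (m2 p) := pullback.lift_fst _ _ _
    have f₂ : g₂b ≫ pullback.fst j p = pullback.fst j (m2 p) := pullback.lift_fst _ _ _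
    have s₁ : g₁b ≫ pullback.snd j p = pullback.snd j (m2 p) ≫ pullback.fst p p := pullback.lift_snd _ _ _
    have s₂ : g₂b ≫ pullback.snd j p = pullback.snd j (m2 p) ≫ pullback.snd p p := pullback.lift_snd _ _ _
    have x₁ : l₁₂ ≫ g₁ = l₁₃ ≫ g₁ := by
      refine cancel_cart hF ?_ ?_
      · rw [comp_base_eq, comp_base_eq]
        exact bb _ _ _ _ _ _ _ _ hf₁₂ hf₁₃ hs₁₂ hs₁₃ f₁ f₁ s₁ s₁ (by
          rw [hb₁₂, hb₁₃]; exact (pullback.lift_fst _ _ _).symm)
      · rw [Category.assoc, Category.assoc, ← hh, ← Category.assoc, ← Category.assoc, hl₁₂, hl₁₃, Category.assoc,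
          Category.assoc, e₁]
    have x₂ : l₁₂ ≫ g₂ = l₂₃ ≫ g₁ := by
      refine cancel_cart hF ?_ ?_
      · rw [comp_base_eq, comp_base_eq, hg₂b]
        exact bb _ _ _ _ _ _ _ _ hf₁₂ hf₂₃ hs₁₂ hs₂₃ f₂ f₁ s₂ s₁ (by rw [hb₁₂, hb₂₃]; exact pullback.condition)
      · rw [Category.assoc, Category.assoc, ← hh, ← hh₂, reassoc_of% hl₁₂, reassoc_of% hl₂₃, e₂]
    have x₃ : l₁₃ ≫ g₂ = l₂₃ ≫ g₂ := by
      refine cancel_cart hq ?_ ?_
      · rw [comp_base_eq, comp_base_eq, hg₂b]
        exact bb _ _ _ _ _ _ _ _ hf₁₃ hf₂₃ hs₁₃ hs₂₃ f₂ f₂ s₂ s₂ (by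
          rw [hb₁₃, hb₂₃]; exact pullback.lift_snd _ _ _)
      · rw [Category.assoc, Category.assoc, hg₂, ← Category.assoc, ← Category.assoc, ← x₁, ← x₂, Category.assoc,
          Category.assoc, hg₂]
    refine eq_of_comp_eq (PicClLib.isInvertible_pullback _ (isInvertible_source hk hNinv)) (isInvertible_source hk hNinv)
      hs₃ hinj ?_ ?_ ?_ ?_
    · exact isCart_comp (isCart_of_comp hπ₁ (by rw [← e₁]; exact isCart_comp hk hπ₁)) hπ₂
    · exact isCart_comp (isCart_of_comp hπ₁ (by rw [← e₂]; exact isCart_comp hk hπ₂)) hπ₂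
    · rw [comp_base_eq, comp_base_eq, hπ₂b, hb₁₃, hb₂₃]
      exact pullback.lift_snd _ _ _
    · rw [← reassoc_of% hl₁₃, ← reassoc_of% hl₂₃, hh₂, reassoc_of% x₃]
  · intro R a b hab
    let t : R ⟶ pullback j (m2 p) := pullback.lift (a ≫ pullback.fst j p)
      (pullback.lift (a ≫ pullback.snd j p) (b ≫ pullback.snd j p) (by
        rw [Category.assoc, Category.assoc, ← pullback.condition, ← Category.assoc, hab, Category.assoc])) (by
      rw [m2, pullback.lift_fst_assoc, Category.assoc, Category.assoc, pullback.condition])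
    have ta : t ≫ g₁b = a := by
      refine pullback.hom_ext ?_ ?_
      · rw [Category.assoc, pullback.lift_fst, pullback.lift_fst]
      · rw [Category.assoc, pullback.lift_snd, pullback.lift_snd_assoc, pullback.lift_fst]
    have tb : t ≫ g₂b = b := by
      refine pullback.hom_ext ?_ ?_
      · rw [Category.assoc, pullback.lift_fst, pullback.lift_fst, hab]
      · rw [Category.assoc, pullback.lift_snd, pullback.lift_snd_assoc, pullback.lift_snd]
    let τ := mkHom (M := (Scheme.Modules.pullback t).obj ((Scheme.Modules.pullback g₁b).obj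
        ((Scheme.Modules.pullback (pullback.snd j p)).obj L)))
      (N := (Scheme.Modules.pullback g₁b).obj ((Scheme.Modules.pullback (pullback.snd j p)).obj L)) t (𝟙 _)
    have hτ : IsCart τ := isCart_mkHom _ _
    refine ⟨_, τ ≫ g₁, τ ≫ g₂, τ ≫ h, isCart_comp hτ hg₁, isCart_comp hτ hg₂c, ?_, ?_, ?_, ?_, ?_⟩
    · rw [comp_base_eq]; exact ta
    · rw [comp_base_eq, hg₂b]; exact tb
    · rw [Category.assoc, Category.assoc, hg₂]
    · rw [Category.assoc, Category.assoc, hh]
    · rw [Category.assoc, Category.assoc, hh₂]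

/-- normalised descent of an invertible module -/
theorem exists_descend {L : Z.Modules} (hL : PicF.IsInvertible L) {L₀ : Y₀.Modules} (hL₀ : PicF.IsInvertible L₀)
    (hp : FpqcDescLib.Covers p)
    (hfr : ∀ D : Effective.Datum p L, ∀ y : Y, ∃ V : Y.Opens, y ∈ V ∧
      ∃ s : Γ(L, p ⁻¹ᵁ V), IsFrame s ∧ Effective.IsInvSec D s)
    (eiso : Nonempty ((Scheme.Modules.pullback (pullback.fst p p)).obj L ≅
      (Scheme.Modules.pullback (pullback.snd p p)).obj L))
    (enorm : Nonempty ((Scheme.Modules.pullback (pullback.snd j p)).obj L ≅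
      (Scheme.Modules.pullback (pullback.fst j p)).obj L₀))
    (hbij : Function.Bijective (pullback.snd j (m2 p)).appTop)
    (hinj : Function.Injective (pullback.snd j (m3 p)).appTop) :
    ∃ M : Y.Modules, PicF.IsInvertible M ∧ Nonempty ((Scheme.Modules.pullback p).obj M ≅ L) ∧
      Nonempty ((Scheme.Modules.pullback j).obj M ≅ L₀) := by
  obtain ⟨en⟩ := enorm
  obtain ⟨N, π₁, π₂, h₁, h₂, hb₁, hb₂, hc, hpair⟩ := exists_pair p j hL eiso en hbij hinj
  let D := pairDatum h₁ h₂ hb₁ hb₂ hc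
  obtain ⟨M, hM, G, hG, hGb, hGR⟩ := Effective.exists_descent_of_frames D hp (hfr D)
  have hπ : π₁ ≫ G = π₂ ≫ G := hGR h₁ ⟨𝟙 _, Category.id_comp _, Category.id_comp _⟩
  refine ⟨M, hM, ?_, ?_⟩
  · haveI : IsIso (show L ⟶ (Scheme.Modules.pullback G.base).obj M from G.fiber) := hG
    exact ⟨((Scheme.Modules.pullbackCongr hGb.symm).app M) ≪≫
      (asIso (show L ⟶ (Scheme.Modules.pullback G.base).obj M from G.fiber)).symm⟩
  let F : (⟨pullback j p, (Scheme.Modules.pullback (pullback.snd j p)).obj L⟩ : SM.{u}) ⟶ ⟨Z, L⟩ :=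
    mkHom (pullback.snd j p) (𝟙 _)
  have hF : IsCart F := isCart_mkHom _ _
  let J : (⟨Y₀, (Scheme.Modules.pullback j).obj M⟩ : SM.{u}) ⟶ ⟨Y, M⟩ := mkHom j (𝟙 _)
  have hJ : IsCart J := isCart_mkHom _ _
  obtain ⟨q', ⟨hq'b, hq'⟩, -⟩ := existsUnique_lift hJ (F ≫ G) (pullback.fst j p) (by
    rw [comp_base_eq, hGb]; exact pullback.condition)
  let q : (⟨pullback j p, (Scheme.Modules.pullback (pullback.snd j p)).obj L⟩ : SM.{u}) ⟶ ⟨Y₀, L₀⟩ :=
    mkHom (pullback.fst j p) en.hom
  have hq : IsCart q := @isCart_mkHom _ _ _ _ _ en.hom en.isIso_hom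
  refine ⟨(nonempty_iso_of_desc (hp.pullback j (pullback.fst j p) (pullback.snd j p) (IsPullback.of_hasPullback j p))
    hL₀ (PicClLib.isInvertible_pullback j hM) q q' hq (isCart_of_comp hJ (by rw [hq']; exact isCart_comp hF hG))
    rfl hq'b fun R a b hab => ?_).some.symm⟩
  obtain ⟨M', α, β, χ, hα, hβ, hαb, hβb, eq, e₁, e₂⟩ := hpair R a b hab
  refine ⟨M', α, β, hα, hβ, hαb, hβb, eq, cancel_cart hJ ?_ ?_⟩
  · rw [comp_base_eq, comp_base_eq, hq'b, hαb, hβb, hab]
  · rw [Category.assoc, Category.assoc, hq', ← Category.assoc, ← Category.assoc, e₁, e₂, Category.assoc,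
      Category.assoc, hπ]

/-- normalised descent along a flat surjection locally of finite presentation -/
theorem exists_descend_fppf [Flat p] [Surjective p] [LocallyOfFinitePresentation p] {L : Z.Modules}
    (hL : PicF.IsInvertible L) {L₀ : Y₀.Modules} (hL₀ : PicF.IsInvertible L₀)
    (eiso : Nonempty ((Scheme.Modules.pullback (pullback.fst p p)).obj L ≅
      (Scheme.Modules.pullback (pullback.snd p p)).obj L))
    (enorm : Nonempty ((Scheme.Modules.pullback (pullback.snd j p)).obj L ≅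
      (Scheme.Modules.pullback (pullback.fst j p)).obj L₀))
    (hbij : Function.Bijective (pullback.snd j (m2 p)).appTop)
    (hinj : Function.Injective (pullback.snd j (m3 p)).appTop) :
    ∃ M : Y.Modules, PicF.IsInvertible M ∧ Nonempty ((Scheme.Modules.pullback p).obj M ≅ L) ∧
      Nonempty ((Scheme.Modules.pullback j).obj M ≅ L₀) :=
  exists_descend p j hL hL₀ (FpqcDescLib.covers_of_isCovering (FpqcDescLib.isCovering_of_lfp p))
    (fun D y => exists_invariant_frame D hL y) eiso enorm hbij hinj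

/-- normalised descent along a flat quasi-compact surjection -/
theorem exists_descend_fpqc [Flat p] [Surjective p] [QuasiCompact p] {L : Z.Modules}
    (hL : PicF.IsInvertible L) {L₀ : Y₀.Modules} (hL₀ : PicF.IsInvertible L₀)
    (eiso : Nonempty ((Scheme.Modules.pullback (pullback.fst p p)).obj L ≅
      (Scheme.Modules.pullback (pullback.snd p p)).obj L))
    (enorm : Nonempty ((Scheme.Modules.pullback (pullback.snd j p)).obj L ≅
      (Scheme.Modules.pullback (pullback.fst j p)).obj L₀))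
    (hbij : Function.Bijective (pullback.snd j (m2 p)).appTop)
    (hinj : Function.Injective (pullback.snd j (m3 p)).appTop) :
    ∃ M : Y.Modules, PicF.IsInvertible M ∧ Nonempty ((Scheme.Modules.pullback p).obj M ≅ L) ∧
      Nonempty ((Scheme.Modules.pullback j).obj M ≅ L₀) :=
  exists_descend p j hL hL₀ (FpqcDescLib.covers_of_isCovering (FpqcDescLib.isCovering_of_quasiCompact p))
    (fun D y => Effective.exists_invariant_frame D hL y) eiso enorm hbij hinj

end Groth.Agent.FppfPic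

end
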