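import Groth.Agent.VeryAmpleX.PnTensor
import Groth.Agent.VeryAmpleX.ToPnProj

/-!
A section of a very ample module generating at finitely many points.
-/

noncomputable section

universe u

open CategoryTheory CategoryTheory.Limits AlgebraicGeometry TopologicalSpace Opposite

set_option autoImplicit false
set_option backward.isDefEq.respectTransparency false
set_option backward.isDefEq.respectTransparency.types false
set_option linter.style.haveILetI false
set_option maxHeartbeats 800000

namespace Groth.Agent.FppfPic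

open Groth.Agent Groth.Agent.InvX

variable {X : Scheme.{u}}

/-- membership in the locus of a combination is nonvanishing of the combination of values -/
theorem mem_locus_comb {L : X.Modules} (hL : PicF.IsInvertible L) {ι : Type} [Fintype ι] (l : ι → Γ(L, ⊤)) (y : X) :
    ∃ v : ι → X.residueField y, ∀ r : ι → Γ(X, ⊤),
      (y ∈ H23.TrivBasic.locus (∑ a, r a • l a) ↔ (∑ a, X.evaluation ⊤ y trivial (r a) * v a) ≠ 0) := by
  obtain ⟨U, hyU, e, he⟩ := InvX.exists_frame hL y
  choose g hg using fun a => he.exists_coord le_rfl (AModX.res L (le_top : U ≤ ⊤) (l a))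
  refine ⟨fun a => X.evaluation U y hyU (g a), fun r => ?_⟩
  have hco : AModX.res L (le_top : U ≤ ⊤) (∑ a, r a • l a) = (∑ a, AModX.resR (le_top : U ≤ ⊤) (r a) * g a) • e := by
    rw [map_sum, Finset.sum_smul]
    refine Finset.sum_congr rfl fun a _ => ?_
    rw [AModX.res_smul, hg a, AModX.res_self, mul_smul]
  have h := congrArg (fun V : X.Opens => y ∈ V) (H23.TrivBasic.locus_eq_basicOpen he hco)
  simp only [Opens.mem_inf, hyU, and_true, eq_iff_iff] at h
  have hm : y ∈ X.basicOpen (∑ a, AModX.resR (le_top : U ≤ ⊤) (r a) * g a) ↔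
      X.evaluation U y hyU (∑ a, AModX.resR (le_top : U ≤ ⊤) (r a) * g a) ≠ 0 := by
    rw [Scheme.evaluation_ne_zero_iff_mem_basicOpen]
  refine h.trans (hm.trans ?_)
  rw [map_sum]
  have he' : ∀ a, X.evaluation U y hyU (AModX.resR (le_top : U ≤ ⊤) (r a) * g a) =
      X.evaluation ⊤ y trivial (r a) * X.evaluation U y hyU (g a) := fun a => by
    rw [map_mul]
    exact congrArg (· * _) (congrArg (X.residue y) (X.presheaf.germ_res_apply (homOfLE le_top) y hyU (r a)))
  simp only [he']

/-- a general combination avoids finitely many points -/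
theorem exists_section_finite (k : Type u) [Field k] [Infinite k] (f : X ⟶ Spec (CommRingCat.of k))
    [LocallyOfFiniteType f] [QuasiCompact f] {L : X.Modules} (hva : RelProj.IsRelVeryAmple f L)
    (hL : PicF.IsInvertible L) (ι : Type) [Finite ι] (y : ι → X) :
    ∃ s : Coh.structureModule X ⟶ L, ∀ i, y i ∈ CohB1.genLocus L s := by
  classical
  haveI := Fintype.ofFinite ι
  obtain ⟨n, i, hi, -, ⟨eL⟩⟩ := VeryAmpleX.isRelVeryAmplePn_of_isRelVeryAmple f hva
  let Z := ULift.{u} ℤ
  let π : CohB1.ProjSpaceOver n (Spec (CommRingCat.of k)) ⟶ CohB1.ProjSpace n Z := pullback.fst _ _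
  let τ₀ : (Scheme.Modules.pullback (i ≫ π)).obj (Twist.twistProjSpace n Z 1) ≅ L :=
    ((Scheme.Modules.pullbackComp i π).app _).symm ≪≫ eL.symm
  let l : Fin (n + 1) → Γ(L, ⊤) := fun a => τ₀.hom.app ⊤ (ProjUP.pullSec (i ≫ π) _ (ProjUP.coord n Z a))
  have hcov : ∀ j, ∃ a, y j ∈ H23.TrivBasic.locus (l a) := fun j => by
    obtain ⟨a, ha⟩ := Opens.mem_iSup.1 ((AmpleEmbed.iSup_basicOpen_X n Z).ge (trivial : (i ≫ π) (y j) ∈ (⊤ : Opens _)))
    exact ⟨a, (AmpleEmbed.preimage_chart (i ≫ π) τ₀ a rfl).le ha⟩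
  choose v hv using fun j => mem_locus_comb hL l (y j)
  let φ : ∀ j, k →+* X.residueField (y j) := fun j =>
    (X.evaluation ⊤ (y j) trivial).hom.comp (f.appTop.hom.comp (Scheme.ΓSpecIso (CommRingCat.of k)).inv.hom)
  let p : ∀ j, Polynomial (X.residueField (y j)) := fun j =>
    ∑ a : Fin (n + 1), Polynomial.monomial (a : ℕ) (v j a)
  have hp : ∀ j, p j ≠ 0 := fun j h0 => by
    obtain ⟨a, ha⟩ := hcov j
    have h1 : y j ∈ H23.TrivBasic.locus (∑ b, (if b = a then (1 : Γ(X, ⊤)) else 0) • l b) := by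
      simpa using ha
    have h2 := (hv j _).1 h1
    refine h2 ?_
    have h3 : v j a = 0 := by
      have h4 := congrArg (fun q : Polynomial (X.residueField (y j)) => q.coeff (a : ℕ)) h0
      simp only [p, Polynomial.finsetSum_coeff, Polynomial.coeff_monomial, Polynomial.coeff_zero] at h4
      simpa [Fin.val_inj] using h4
    simp [apply_ite, h3]
  let bad : Set k := ⋃ j, (φ j) ⁻¹' {z | (p j).IsRoot z}
  have hbad : bad.Finite := Set.finite_iUnion fun j =>
    (Polynomial.finite_setOf_isRoot (hp j)).preimage (φ j).injective.injOn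
  obtain ⟨t, ht⟩ := hbad.exists_notMem
  let r : Fin (n + 1) → Γ(X, ⊤) := fun a =>
    (f.appTop.hom.comp (Scheme.ΓSpecIso (CommRingCat.of k)).inv.hom) t ^ (a : ℕ)
  refine ⟨InvX.ofSect (∑ a, r a • l a), fun j => (hv j r).2 fun h0 => ht (Set.mem_iUnion.2 ⟨j, ?_⟩)⟩
  show (p j).IsRoot (φ j t)
  rw [Polynomial.IsRoot, show p j = ∑ a : Fin (n + 1), Polynomial.monomial (a : ℕ) (v j a) from rfl,
    Polynomial.eval_finsetSum, ← h0]
  refine Finset.sum_congr rfl fun a _ => ?_
  rw [Polynomial.eval_monomial, mul_comm]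
  exact congrArg (· * _) (map_pow (X.evaluation ⊤ (y j) trivial).hom _ _).symm

end Groth.Agent.FppfPic

end
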