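import Groth.Agent.FppfPic.HyperSec
import Groth.Agent.Lib.RegDescent
import Groth.Agent.Lib.ProjRegularPn
import Groth.Agent.PnCoh.Finite.ProjSpace

/-!
Sections of negative twists of modules without closed associated points.
-/

noncomputable section

set_option autoImplicit false
set_option linter.style.haveILetI false
set_option backward.isDefEq.respectTransparency false
set_option backward.isDefEq.respectTransparency.types false
set_option maxHeartbeats 1000000
attribute [-instance] CategoryTheory.catToReflQuiver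

universe u

open CategoryTheory CategoryTheory.Limits AlgebraicGeometry

namespace Groth.Agent.FppfPic.HyperPn

open Groth.Agent

/-- tensoring with an invertible module keeps the associated points -/
theorem isWeakAss_of_tensor {X : Scheme.{u}} {M L : X.Modules} (hL : PicF.IsInvertible L) (x : X)
    (h : Curv2.IsWeakAssPoint (CohB1.tensorMod M L) x) : Curv2.IsWeakAssPoint M x := by
  obtain ⟨e⟩ := H23.InvStalk.exists_stalk_equiv hL x
  let E : ((DerSch.stalkFunctor X x).obj ((DCoh.tensorBi.obj M).obj L) : Type u) ≃ₗ[X.presheaf.stalk x]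
      ((DerSch.stalkFunctor X x).obj M : Type u) :=
    (KFlatLib.stalkTensorIso x M L).toLinearEquiv.symm.trans
      ((TensorProduct.congr (LinearEquiv.refl _ _) e).trans (TensorProduct.rid _ _))
  have h' := AssPtX.isWeakAssPoint_iff.1 h
  refine AssPtX.isWeakAssPoint_iff.2 ((AssPtX.mem_weakAss_equiv (RingEquiv.refl _) E.toAddEquiv
    (fun r m => E.map_smul r m) _).2 ?_)
  rw [show (IsLocalRing.maximalIdeal (X.presheaf.stalk x)).comap (RingEquiv.refl (X.presheaf.stalk x)).toRingHom =
    IsLocalRing.maximalIdeal (X.presheaf.stalk x) from Ideal.ext fun r => Iff.rfl]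
  exact h'

variable (k : Type u) [Field k] [IsAlgClosed k] (N : ℕ) (F : (CohB1.ProjSpace N k).Modules) (hF : Coh.IsCoh F)
  (hass : ∀ x : ↥(CohB1.ProjSpace N k), Curv2.IsAssPoint F x → ¬ IsClosed ({x} : Set ↥(CohB1.ProjSpace N k)))

local instance projOver' : (Proj (CohB1.polyGrading N k)).Over (Spec (CommRingCat.of k)) :=
  inferInstanceAs ((CohB1.ProjSpace N k).Over (Spec (CommRingCat.of k)))

/-- dimension of sections of a twist -/
def h0 (d : ℤ) : ℕ :=
  Module.finrank k (Coh.HH (CohB1.ProjSpace N k) (CohB1.tensorMod F (Twist.twistProjSpace N k d)) 0)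

include hF hass

theorem h0_lt (d : ℤ) (hd : 1 ≤ h0 k N F (d - 1) ∨ 1 ≤ h0 k N F d) : h0 k N F (d - 1) < h0 k N F d := by
  let Q := CohB1.tensorMod F (Twist.twistProjSpace N k (d - 1))
  let M := ClosedImmPn.M (𝟙 (CohB1.ProjSpace N k))
  haveI hP : IsNoetherian (Proj (CohB1.polyGrading N k)) := Proj16.isNoetherian_proj _
  haveI : IsLocallyNoetherian (CohB1.ProjSpace N k) := hP.toIsLocallyNoetherian
  haveI : CompactSpace (CohB1.ProjSpace N k) := hP.toCompactSpace
  have htw : PicF.IsInvertible (Twist.twistProjSpace N k (d - 1)) :=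
    PnCoh.Finite.isInvertible_twist (ProjRegular.coords k N) ProjRegular.coords_mem ProjRegular.coords_cover _
  have hM : PicF.IsInvertible M := PicClLib.isInvertible_pullback _
    (PnCoh.Finite.isInvertible_twist (ProjRegular.coords k N) ProjRegular.coords_mem ProjRegular.coords_cover _)
  have hQ : Coh.IsCoh Q := ProjRegular.isCoh_twistBy hF _
  obtain ⟨a⟩ := RegEpi.twF_twF_iso (k := k) (n := N) F (d - 1) 1 d (by ring)
  let e : CohB1.tensorMod Q M ≅ CohB1.tensorMod F (Twist.twistProjSpace N k d) :=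
    (DCoh.tensorBi.obj Q).mapIso ((Scheme.Modules.pullbackId (CohB1.ProjSpace N k)).app _) ≪≫ a
  have he : Module.finrank k (Coh.HH (CohB1.ProjSpace N k) (CohB1.tensorMod Q M) 0) = h0 k N F d :=
    (RegDescent.HHequiv (k := k) e 0).finrank_eq
  have hfin : Module.Finite k (Coh.HH (CohB1.ProjSpace N k) (CohB1.tensorMod Q M) 0) := by
    haveI := PnCoh.Finite.projSpace_finite_HH N k _ (ProjRegular.isCoh_twistBy hF d) 0
    exact Module.Finite.equiv (RegDescent.HHequiv (k := k) e 0).symm
  have h := HyperSec.finrank_lt k hQ hM (PnCoh.Finite.projSpace_finite_HH N k _ hQ 0) hfin (he ▸ hd)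
    (fun a => ClosedImmPn.σ (𝟙 (CohB1.ProjSpace N k)) a) fun y hy =>
      HyperSec.exists_pair N k y (hass y (AssPtX.isAssPoint_iff.2 (isWeakAss_of_tensor htw y hy)))
  rwa [he] at h

omit hF hass in
theorem step : h0 k N F 0 = Module.finrank k (Coh.HH (CohB1.ProjSpace N k) F 0) := by
  obtain ⟨e⟩ := RegEpi.twF_zero_iso (k := k) (n := N) F
  exact (RegDescent.HHequiv (k := k) e 0).finrank_eq

theorem h0_le (n : ℕ) : h0 k N F (-(n : ℤ)) ≤ h0 k N F 0 - n := by
  induction n with
  | zero => simp
  | succ n ih =>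
    rw [show (-((n + 1 : ℕ) : ℤ)) = -(n : ℤ) - 1 by push_cast; ring]
    rcases Nat.eq_zero_or_pos (h0 k N F (-(n : ℤ) - 1)) with h | h
    · omega
    · have := h0_lt k N F hF hass (-(n : ℤ)) (Or.inl h)
      omega

theorem subsingleton_neg (n : ℕ) (hn : Module.finrank k (Coh.HH (CohB1.ProjSpace N k) F 0) ≤ n) :
    Subsingleton (Coh.HH (CohB1.ProjSpace N k) (CohB1.tensorMod F (Twist.twistProjSpace N k (-(n : ℤ)))) 0) := by
  haveI := PnCoh.Finite.projSpace_finite_HH N k _ (ProjRegular.isCoh_twistBy hF (-(n : ℤ))) 0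
  have h := h0_le k N F hF hass n
  rw [step k N F] at h
  exact Module.finrank_zero_iff.1 (show Module.finrank k
    (Coh.HH (CohB1.ProjSpace N k) (CohB1.tensorMod F (Twist.twistProjSpace N k (-(n : ℤ)))) 0) = 0 from
      Nat.eq_zero_of_le_zero (h.trans (by omega)))

end Groth.Agent.FppfPic.HyperPn

end
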