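import Groth.Agent.AssPtX.Noeth
import Groth.Agent.InvX.Tensor
import Groth.Agent.FppfPic.GeneralSection
import Groth.Agent.H23.InvStalk
import Groth.Agent.QCoh.CechMap
import Groth.Agent.ClosedImmPn.Basic
import Groth.Agent.H23.PicMul
import Mathlib.Algebra.Module.Submodule.Union
import Mathlib.LinearAlgebra.Eigenspace.Minpoly
import Mathlib.FieldTheory.IsAlgClosed.AlgebraicClosure

/-!
A module without closed associated points gains sections when twisted.
-/

noncomputable section

set_option autoImplicit false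
set_option linter.style.haveILetI false
set_option linter.unusedSectionVars false
set_option backward.isDefEq.respectTransparency false
set_option backward.isDefEq.respectTransparency.types false
set_option maxHeartbeats 1000000
attribute [-instance] CategoryTheory.catToReflQuiver

universe u

open CategoryTheory CategoryTheory.Limits AlgebraicGeometry TopologicalSpace Opposite
open scoped TensorProduct
open MonoidalCategory

namespace Groth.Agent.FppfPic.HyperSec

open Groth.Agent Groth.Agent.InvX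

variable {X : Scheme.{u}}

theorem tmul_add_left {M N : X.Modules} {U : X.Opens} (a a' : Γ(M, U)) (b : Γ(N, U)) :
    InvX.tmul (a + a') b = InvX.tmul a b + InvX.tmul a' b := by
  rw [InvX.tmul, InvX.tmul, InvX.tmul]
  exact (congrArg _ (TensorProduct.add_tmul _ _ _)).trans (map_add _ _ _)

theorem tmul_add_right {M N : X.Modules} {U : X.Opens} (a : Γ(M, U)) (b b' : Γ(N, U)) :
    InvX.tmul a (b + b') = InvX.tmul a b + InvX.tmul a b' := by
  rw [InvX.tmul, InvX.tmul, InvX.tmul]
  exact (congrArg _ (TensorProduct.tmul_add _ _ _)).trans (map_add _ _ _)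

/-- tensoring with a frame loses nothing at a point -/
theorem germ_eq_zero_of_tmul {M N : X.Modules} {U : X.Opens} (a : Γ(M, U)) {b : Γ(N, U)} (hb : IsFrame b)
    (h : InvX.tmul a b = 0) {x : X} (hx : x ∈ U) :
    KFlatLib.germP (CohB1.toPMod M) U hx a = 0 := by
  let P := CohB1.toPMod M
  let Q := CohB1.toPMod N
  let ga : KFlatLib.stalkMod x P := KFlatLib.germP P U hx a
  let gb : KFlatLib.stalkMod x Q := KFlatLib.germP Q U hx b
  let eb := LinearEquiv.ofBijective (LinearMap.toSpanSingleton (X.presheaf.stalk x) (KFlatLib.stalkMod x Q) gb)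
    (hb.germ_bijective hx)
  let T := ((TensorProduct.rid (X.presheaf.stalk x) (KFlatLib.stalkMod x P)).symm.trans
    (TensorProduct.congr (LinearEquiv.refl _ _) eb)).trans (KFlatLib.tensorStalkEquiv P Q)
  haveI hi := KFlatLib.isIso_stalk_unitShP (x := x) (P ⊗ Q)
  let u := ((KFlatLib.stalkP x).map (KFlatLib.unitShP (P ⊗ Q)))
  have hu : Function.Bijective u.hom := ConcreteCategory.bijective_of_isIso u
  have hT : T ga = KFlatLib.germP (P ⊗ Q) U hx (KFlatLib.tm a b) := by
    show KFlatLib.tensorStalkEquiv P Q (TensorProduct.congr (LinearEquiv.refl _ _) eb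
      ((TensorProduct.rid (X.presheaf.stalk x) (KFlatLib.stalkMod x P)).symm ga)) = _
    rw [TensorProduct.rid_symm_apply, TensorProduct.congr_tmul]
    show KFlatLib.tensorStalkEquiv P Q (ga ⊗ₜ ((1 : X.presheaf.stalk x) • gb)) = _
    rw [one_smul]
    exact KFlatLib.ofTensor_germ U hx a b
  have h0 : u.hom (T ga) = 0 := by
    rw [hT]
    refine (KFlatLib.stalkModMap_germ _ U hx _).trans ?_
    show KFlatLib.germP _ U hx (InvX.tmul a b) = 0
    rw [h, map_zero]
  exact T.injective ((hu.1 (h0.trans (map_zero u.hom).symm)).trans (map_zero T).symm)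

variable (k : Type u) [Field k] [X.Over (Spec (CommRingCat.of k))]

/-- constants -/
def gl : k →+* Γ(X, ⊤) := Coh.toGlobal (X ↘ Spec (CommRingCat.of k))

/-- sections as a space over the ground field -/
@[reducible] def secMod (M : X.Modules) : Module k Γ(M, ⊤) := Module.compHom Γ(M, ⊤) (gl k (X := X))

theorem finrank_HH_zero (M : X.Modules) :
    letI := secMod k M
    Module.finrank k (Coh.HH X M 0) = Module.finrank k Γ(M, ⊤) := by
  letI := secMod k M
  let e : Coh.HH X M 0 ≃+ Γ(M, ⊤) := Sheaf.H.equiv₀ (Coh.toAb M) isTerminalTop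
  have he : ∀ (c : k) (x : Coh.HH X M 0), e (c • x) = c • e x := by
    intro c x
    have h := (Sheaf.H.equiv₀_naturality isTerminalTop (Coh.smulAb M (gl k c : Γ(X, ⊤))) x).symm
    refine (show e (c • x) = _ from h).trans ?_
    show (show Γ(X, ⊤) from Coh.resTop X (op ⊤) (gl k c)) • (show Γ(M, ⊤) from e x) = _
    refine congrArg (· • (show Γ(M, ⊤) from e x)) ?_
    show (X.presheaf.map (homOfLE le_top).op).hom (gl k c) = gl k c
    rw [show (homOfLE le_top).op = 𝟙 (op (⊤ : X.Opens)) from rfl, X.presheaf.map_id]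
    rfl
  let eL : Coh.HH X M 0 ≃ₗ[k] Γ(M, ⊤) := { e with map_smul' := he }
  exact eL.finrank_eq

theorem finite_sections (M : X.Modules) (h : Module.Finite k (Coh.HH X M 0)) :
    letI := secMod k M
    Module.Finite k Γ(M, ⊤) := by
  letI := secMod k M
  let e : Coh.HH X M 0 ≃+ Γ(M, ⊤) := Sheaf.H.equiv₀ (Coh.toAb M) isTerminalTop
  have he : ∀ (c : k) (x : Coh.HH X M 0), e (c • x) = c • e x := by
    intro c x
    have h := (Sheaf.H.equiv₀_naturality isTerminalTop (Coh.smulAb M (gl k c : Γ(X, ⊤))) x).symm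
    refine (show e (c • x) = _ from h).trans ?_
    show (show Γ(X, ⊤) from Coh.resTop X (op ⊤) (gl k c)) • (show Γ(M, ⊤) from e x) = _
    refine congrArg (· • (show Γ(M, ⊤) from e x)) ?_
    show (X.presheaf.map (homOfLE le_top).op).hom (gl k c) = gl k c
    rw [show (homOfLE le_top).op = 𝟙 (op (⊤ : X.Opens)) from rfl, X.presheaf.map_id]
    rfl
  let eL : Coh.HH X M 0 ≃ₗ[k] Γ(M, ⊤) := { e with map_smul' := he }
  exact Module.Finite.equiv eL

variable [IsAlgClosed k] [IsLocallyNoetherian X] [CompactSpace X]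

/-- sections grow when twisting a module whose associated points see two independent sections -/
theorem finrank_lt {Q M : X.Modules} (hQ : Coh.IsCoh Q) (hM : PicF.IsInvertible M)
    (hfin : Module.Finite k (Coh.HH X Q 0)) (hfin' : Module.Finite k (Coh.HH X (CohB1.tensorMod Q M) 0))
    (hne : 1 ≤ Module.finrank k (Coh.HH X Q 0) ∨ 1 ≤ Module.finrank k (Coh.HH X (CohB1.tensorMod Q M) 0)) {N : ℕ} (l : Fin N → Γ(M, ⊤))
    (hgen : ∀ y : X, Curv2.IsWeakAssPoint Q y → ∃ a b : Fin N, ∀ α β : k, (α ≠ 0 ∨ β ≠ 0) →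
      y ∈ H23.TrivBasic.locus (gl k (X := X) α • l a + gl k (X := X) β • l b)) :
    Module.finrank k (Coh.HH X Q 0) < Module.finrank k (Coh.HH X (CohB1.tensorMod Q M) 0) := by
  classical
  by_contra hlt
  letI := secMod k Q
  letI := secMod k (CohB1.tensorMod Q M)
  rw [finrank_HH_zero, finrank_HH_zero, not_lt] at hlt
  rw [finrank_HH_zero, finrank_HH_zero] at hne
  replace hne : 1 ≤ Module.finrank k Γ(Q, ⊤) := hne.elim id fun h => h.trans hlt
  haveI : Module.Finite k Γ(Q, ⊤) := by
    let e : Coh.HH X Q 0 ≃+ Γ(Q, ⊤) := Sheaf.H.equiv₀ (Coh.toAb Q) isTerminalTop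
    exact Module.finite_of_finrank_pos (by omega)
  haveI : Module.Finite k Γ(CohB1.tensorMod Q M, ⊤) := finite_sections k _ hfin'
  let comb : (Fin N → k) → Γ(M, ⊤) := fun c => ∑ a, gl k (X := X) (c a) • l a
  have comb_add : ∀ c d, comb (c + d) = comb c + comb d := fun c d => by
    simp only [comb, Pi.add_apply, map_add, add_smul, Finset.sum_add_distrib]
  have comb_smul : ∀ (r : k) c, comb (r • c) = gl k r • comb c := fun r c => by
    simp only [comb, Pi.smul_apply, smul_eq_mul, map_mul, mul_smul]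
    exact (Finset.smul_sum (r := gl k r) (f := fun a => gl k (c a) • l a) (s := Finset.univ)).symm
  let A := {y : X | y ∈ (⊤ : X.Opens) ∧ Curv2.IsAssPoint Q y}
  haveI : Finite A := (AssPtX.finite_assPoints hQ (U := ⊤) isCompact_univ).to_subtype
  choose v hv using fun y : A => FppfPic.mem_locus_comb hM l y.1
  let φ : ∀ y : A, k →+* X.residueField y.1 := fun y => (X.evaluation ⊤ y.1 trivial).hom.comp (gl k (X := X))
  have hker : ∀ (y : A) (c : Fin N → k), y.1 ∈ H23.TrivBasic.locus (comb c) ↔ ∑ a, φ y (c a) * v y a ≠ 0 :=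
    fun y c => hv y fun a => gl k (c a)
  let K : A → Submodule k (Fin N → k) := fun y =>
    { carrier := {c | ∑ a, φ y (c a) * v y a = 0}
      add_mem' := fun {c d} hc hd => by
        simp only [Set.mem_setOf_eq, Pi.add_apply, map_add, add_mul, Finset.sum_add_distrib] at hc hd ⊢
        rw [hc, hd, add_zero]
      zero_mem' := by simp
      smul_mem' := fun r c hc => by
        simp only [Set.mem_setOf_eq, Pi.smul_apply, smul_eq_mul, map_mul, mul_assoc] at hc ⊢
        rw [← Finset.mul_sum, hc, mul_zero] }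
  have hK : ∀ (y : A) c, c ∈ K y ↔ y.1 ∉ H23.TrivBasic.locus (comb c) := fun y c =>
    ((iff_congr Iff.rfl Iff.rfl).2 (not_iff_comm.1 ((hker y c).symm))).symm
  have hpair : ∀ y : A, ∃ e e' : Fin N → k, ∀ α β : k, α • e + β • e' ∈ K y → α = 0 ∧ β = 0 := fun y => by
    obtain ⟨a, b, hab⟩ := hgen y.1 (AssPtX.isAssPoint_iff.1 y.2.2)
    refine ⟨Pi.single a 1, Pi.single b 1, fun α β h => ?_⟩
    by_contra h0
    refine (hK y _).1 h ?_
    rw [comb_add, comb_smul, comb_smul]
    have hs : ∀ a : Fin N, comb (Pi.single a 1) = l a := fun a => by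
      simp [comb, Pi.single_apply, apply_ite, ite_smul]
    rw [hs, hs]
    exact hab α β (not_and_or.1 h0)
  have hK1 : ∀ y, K y ≠ ⊤ := fun y h => by
    obtain ⟨e, e', he⟩ := hpair y
    exact one_ne_zero (he 1 0 (h ▸ Submodule.mem_top)).1
  obtain ⟨c, hc⟩ := Submodule.exists_forall_notMem_of_forall_ne_top K hK1
  have hK2 : ∀ y, K y ⊔ Submodule.span k {c} ≠ ⊤ := fun y h => by
    obtain ⟨e, e', he⟩ := hpair y
    have h1 : e ∈ K y ⊔ Submodule.span k {c} := h ▸ Submodule.mem_top
    have h2 : e' ∈ K y ⊔ Submodule.span k {c} := h ▸ Submodule.mem_top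
    obtain ⟨κ, hκ, _, hs, rfl⟩ := Submodule.mem_sup.1 h1
    obtain ⟨κ', hκ', _, hs', rfl⟩ := Submodule.mem_sup.1 h2
    obtain ⟨α, rfl⟩ := Submodule.mem_span_singleton.1 hs
    obtain ⟨β, rfl⟩ := Submodule.mem_span_singleton.1 hs'
    have h3 : β • (κ + α • c) + (-α) • (κ' + β • c) ∈ K y := by
      have : β • (κ + α • c) + (-α) • (κ' + β • c) = β • κ + (-α) • κ' := by module
      rw [this]
      exact add_mem ((K y).smul_mem _ hκ) ((K y).smul_mem _ hκ')
    obtain ⟨-, hα⟩ := he _ _ h3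
    rw [neg_eq_zero] at hα
    refine one_ne_zero (he 1 0 ?_).1
    rw [one_smul, zero_smul, add_zero, hα, zero_smul, add_zero]
    exact hκ
  obtain ⟨c', hc'⟩ := Submodule.exists_forall_notMem_of_forall_ne_top _ hK2
  let μ : (Fin N → k) → (Γ(Q, ⊤) →ₗ[k] Γ(CohB1.tensorMod Q M, ⊤)) := fun d =>
    { toFun := fun σ => InvX.tmul σ (comb d)
      map_add' := fun σ σ' => tmul_add_left σ σ' _
      map_smul' := fun r σ => InvX.tmul_smul_left (gl k r) σ _ }
  have hinj : ∀ d, (∀ y, d ∉ K y) → Function.Injective (μ d) := fun d hd => by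
    refine (injective_iff_map_eq_zero _).2 fun σ hσ => ?_
    refine AssPtX.eq_zero_of_germ hQ.1 σ fun y hy hya => ?_
    have hyA : y ∈ A := ⟨trivial, AssPtX.isAssPoint_iff.2 hya⟩
    obtain ⟨U, hyU, hU⟩ := H23.TrivBasic.mem_locus_iff.1 (not_not.1 fun h => hd ⟨y, hyA⟩ ((hK ⟨y, hyA⟩ d).2 h))
    have h1 : InvX.tmul (AModX.res Q (le_top : U ≤ ⊤) σ) (AModX.res M (le_top : U ≤ ⊤) (comb d)) = 0 := by
      rw [← InvX.res_tmul]
      exact (congrArg _ (show InvX.tmul σ (comb d) = 0 from hσ)).trans (map_zero _)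
    have h2 := germ_eq_zero_of_tmul _ hU h1 hyU
    exact (InvX.germ_res' (le_top : U ≤ ⊤) hyU σ).symm.trans h2
  have hbij : Function.Bijective (μ c) :=
    ⟨hinj c hc, (LinearMap.injective_iff_surjective_of_finrank_eq_finrank
      (le_antisymm (LinearMap.finrank_le_finrank_of_injective (hinj c hc)) hlt)).1 (hinj c hc)⟩
  let E := LinearEquiv.ofBijective (μ c) hbij
  haveI : Nontrivial Γ(Q, ⊤) := Module.nontrivial_of_finrank_pos (R := k) (by omega)
  obtain ⟨z, hz⟩ := Module.End.exists_eigenvalue (E.symm.toLinearMap ∘ₗ μ c')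
  obtain ⟨τ, hτ, hτ0⟩ := Module.End.HasEigenvalue.exists_hasEigenvector hz
  have hτ' : μ c' τ = z • μ c τ := by
    have h1 := Module.End.mem_eigenspace_iff.1 hτ
    have h2 := congrArg E h1
    rw [map_smul] at h2
    exact ((E.apply_symm_apply _).symm.trans h2)
  have hd : ∀ y, c' - z • c ∉ K y := fun y h => hc' y (by
    have e : c' = (c' - z • c) + z • c := (sub_add_cancel _ _).symm
    rw [e]
    exact Submodule.add_mem_sup h (Submodule.mem_span_singleton.2 ⟨z, rfl⟩))
  refine hτ0 ((injective_iff_map_eq_zero _).1 (hinj _ hd) τ ?_)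
  show InvX.tmul τ (comb (c' - z • c)) = 0
  have h3 : InvX.tmul τ (comb (c' - z • c)) + InvX.tmul τ (comb (z • c)) = InvX.tmul τ (comb c') := by
    rw [← tmul_add_right, ← comb_add, sub_add_cancel]
  have h4 : InvX.tmul τ (comb (z • c)) = InvX.tmul τ (comb c') := by
    rw [comb_smul, InvX.tmul_smul_right]
    exact hτ'.symm
  rw [h4] at h3
  simpa using h3

end Groth.Agent.FppfPic.HyperSec

namespace Groth.Agent.FppfPic.HyperSec

open Groth.Agent Groth.Agent.InvX

variable (n : ℕ) (k : Type u) [Field k]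

/-- a point of projective space all whose coordinate ratios are constants is closed -/
theorem isClosed_of_values (j : Fin (n + 1)) (y : CohB1.ProjSpace n k) (hy : y ∈ ClosedImmPn.D n k j)
    (h : ∀ l, ∃ c : k, (CohB1.ProjSpace n k).evaluation _ y hy (ClosedImmPn.t n k j l) =
      (CohB1.ProjSpace n k).evaluation _ y hy (ClosedImmPn.cst n k j c)) : IsClosed ({y} : Set (CohB1.ProjSpace n k)) := by
  let ev := (CohB1.ProjSpace n k).evaluation _ y hy
  have hrange : ∀ x, ∃ c : k, ev x = ev (ClosedImmPn.cst n k j c) := by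
    refine ClosedImmPn.chart_induction n k j (fun c => ⟨c, rfl⟩) h ?_ ?_
    · rintro a b ⟨c, hc⟩ ⟨d, hd⟩
      exact ⟨c + d, by rw [map_add, map_add, map_add, hc, hd]⟩
    · rintro a b ⟨c, hc⟩ ⟨d, hd⟩
      exact ⟨c * d, by rw [map_mul, map_mul, map_mul, hc, hd]⟩
  have hD : IsAffineOpen (ClosedImmPn.D n k j) := Proj.isAffineOpen_basicOpen _ _ (ProjPt.X_mem j) one_pos
  let P := (hD.primeIdealOf ⟨y, hy⟩)
  have hmem : ∀ x, x ∈ P.asIdeal ↔ ev x = 0 := fun x => by
    rw [← not_iff_not, ← QCoh.mem_basicOpen_iff_notMem hD hy x]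
    exact (Scheme.evaluation_ne_zero_iff_mem_basicOpen _ y hy x).symm
  have hmax : P.asIdeal.IsMaximal := by
    refine Ideal.isMaximal_iff.2 ⟨fun h1 => P.isPrime.ne_top ((Ideal.eq_top_iff_one _).2 h1), fun J x hJ hx hxJ => ?_⟩
    obtain ⟨c, hc⟩ := hrange x
    have hc0 : c ≠ 0 := fun h0 => hx ((hmem x).2 (by rw [hc, h0, map_zero, map_zero]))
    have h1 : x * ClosedImmPn.cst n k j c⁻¹ - 1 ∈ P.asIdeal := (hmem _).2 (by
      rw [map_sub, map_mul, hc, ← map_mul, ← map_mul, mul_inv_cancel₀ hc0, map_one, map_one, sub_self])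
    have h2 := J.sub_mem (J.mul_mem_right (ClosedImmPn.cst n k j c⁻¹) hxJ) (hJ h1)
    rwa [sub_sub_cancel] at h2
  haveI : JacobsonSpace (CohB1.ProjSpace n k) := LocallyOfFiniteType.jacobsonSpace (CohB1.ProjSpace.toSpec n k)
  have h2 : P ∈ closedPoints (Spec Γ(CohB1.ProjSpace n k, ClosedImmPn.D n k j)) :=
    (PrimeSpectrum.isClosed_singleton_iff_isMaximal P).2 hmax
  rw [← hD.fromSpec.isOpenEmbedding.preimage_closedPoints] at h2
  have h3 : hD.fromSpec P ∈ closedPoints (CohB1.ProjSpace n k) := h2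
  rwa [show hD.fromSpec P = y from hD.fromSpec_primeIdealOf ⟨y, hy⟩] at h3

/-- at a point which is not closed two coordinates stay independent -/
theorem exists_pair (y : CohB1.ProjSpace n k) (hy : ¬ IsClosed ({y} : Set (CohB1.ProjSpace n k))) :
    ∃ a b : Fin (n + 1), ∀ α β : k, (α ≠ 0 ∨ β ≠ 0) → y ∈ H23.TrivBasic.locus
      (gl k (X := CohB1.ProjSpace n k) α • ClosedImmPn.σ (𝟙 (CohB1.ProjSpace n k)) a + gl k (X := CohB1.ProjSpace n k) β • ClosedImmPn.σ (𝟙 (CohB1.ProjSpace n k)) b) := by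
  let f := 𝟙 (CohB1.ProjSpace n k)
  obtain ⟨j, hj⟩ := Opens.mem_iSup.1 ((AmpleEmbed.iSup_basicOpen_X n k).ge (trivial : y ∈ (⊤ : Opens _)))
  by_contra hcon
  push Not at hcon
  refine hy (isClosed_of_values n k j y hj fun l => ?_)
  obtain ⟨α, β, hne, hnot⟩ := hcon j l
  let U := f ⁻¹ᵁ ClosedImmPn.D n k j
  have hyU : y ∈ U := hj
  have hco : AModX.res _ (le_top : U ≤ ⊤) (gl k (X := CohB1.ProjSpace n k) α • ClosedImmPn.σ f j + gl k (X := CohB1.ProjSpace n k) β • ClosedImmPn.σ f l) =
      (f.app _ (ClosedImmPn.cst n k j α) + f.app _ (ClosedImmPn.cst n k j β) * f.app _ (ClosedImmPn.t n k j l)) •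
        ClosedImmPn.frame f j := by
    rw [map_add, AModX.res_smul, AModX.res_smul, add_smul, mul_smul, ← ClosedImmPn.res_σ,
      ← ClosedImmPn.app_cst (CohB1.ProjSpace.toSpec n k) f (Category.id_comp _),
      ← ClosedImmPn.app_cst (CohB1.ProjSpace.toSpec n k) f (Category.id_comp _)]
    rfl
  have hb := H23.TrivBasic.locus_eq_basicOpen (ClosedImmPn.isFrame_frame f j) hco
  have h0 : (CohB1.ProjSpace n k).evaluation U y hyU
      (f.app _ (ClosedImmPn.cst n k j α) + f.app _ (ClosedImmPn.cst n k j β) * f.app _ (ClosedImmPn.t n k j l)) = 0 := by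
    by_contra h
    exact hnot ((hb.ge ((Scheme.evaluation_ne_zero_iff_mem_basicOpen _ y hyU _).1 h)).1)
  simp only [f, Scheme.Hom.id_app, CommRingCat.id_apply] at h0
  let ev := (CohB1.ProjSpace n k).evaluation (ClosedImmPn.D n k j) y hj
  have h0' : ev (ClosedImmPn.cst n k j α) + ev (ClosedImmPn.cst n k j β) * ev (ClosedImmPn.t n k j l) = 0 := by
    rw [← map_mul, ← map_add]
    exact h0
  rcases eq_or_ne β 0 with rfl | hβ
  · rw [map_zero, map_zero, zero_mul, add_zero] at h0'
    exact absurd h0' ((IsUnit.mk0 α (hne.resolve_right (not_not_intro rfl))).map (ev.hom.comp (ClosedImmPn.cst n k j))).ne_zero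
  · refine ⟨-(α / β), ?_⟩
    have hu : ev (ClosedImmPn.cst n k j β) ≠ 0 :=
      ((IsUnit.mk0 β hβ).map (ev.hom.comp (ClosedImmPn.cst n k j))).ne_zero
    refine mul_left_cancel₀ hu ?_
    rw [← map_mul, ← map_mul (ev.hom) (ClosedImmPn.cst n k j β) (ClosedImmPn.cst n k j (-(α / β))), ← map_mul (ClosedImmPn.cst n k j),
      show β * -(α / β) = -α by field_simp, map_neg, map_neg]
    rw [map_mul]
    exact eq_neg_of_add_eq_zero_right h0'

end Groth.Agent.FppfPic.HyperSec

end
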