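import Groth.Agent.FppfPic.Sections

/-!
A descent datum from two identifications on the double product.
-/

noncomputable section

set_option autoImplicit false
set_option linter.style.haveILetI false
set_option linter.unusedSectionVars false
set_option backward.isDefEq.respectTransparency false
set_option backward.isDefEq.respectTransparency.types false
set_option maxHeartbeats 1000000
set_option synthInstance.maxHeartbeats 400000

universe u

open CategoryTheory CategoryTheory.Limits AlgebraicGeometry TopologicalSpace Opposite Pseudofunctor Bicategory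

namespace Groth.Agent.FppfPic

open Groth.Agent.AModX Groth.Agent.InvX Groth.Agent.AVTheta

variable {Z Y : Scheme.{u}} {p : Z ⟶ Y} {L : Z.Modules} {N : (pullback p p).Modules}
  {π₁ π₂ : (⟨pullback p p, N⟩ : SM.{u}) ⟶ ⟨Z, L⟩}

variable (π₁ π₂) in
/-- the cocycle condition on the triple product -/
def IsCocycle : Prop :=
  ∀ {T : Scheme.{u}} {M : T.Modules} (χ₁₂ χ₂₃ χ₁₃ : (⟨T, M⟩ : SM.{u}) ⟶ ⟨pullback p p, N⟩),
    IsCart χ₁₂ → χ₁₂ ≫ π₁ = χ₁₃ ≫ π₁ → χ₁₂ ≫ π₂ = χ₂₃ ≫ π₁ →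
      χ₁₃.base ≫ pullback.snd p p = χ₂₃.base ≫ pullback.snd p p → χ₁₃ ≫ π₂ = χ₂₃ ≫ π₂

theorem base_fst (hb₁ : π₁.base = pullback.fst p p) {T : Scheme.{u}} {M : T.Modules}
    (χ : (⟨T, M⟩ : SM.{u}) ⟶ ⟨pullback p p, N⟩) : (χ ≫ π₁).base = χ.base ≫ pullback.fst p p := by
  rw [CoGrothendieck.categoryStruct_comp_base, hb₁]

/-- the descent datum -/
def pairDatum (h₁ : IsCart π₁) (h₂ : IsCart π₂) (hb₁ : π₁.base = pullback.fst p p)
    (hb₂ : π₂.base = pullback.snd p p) (hc : IsCocycle π₁ π₂) : Effective.Datum p L where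
  R φ ψ := ∃ χ, χ ≫ π₁ = φ ∧ χ ≫ π₂ = ψ
  base_eq := by
    rintro T M φ ψ ⟨χ, rfl, rfl⟩
    rw [CoGrothendieck.categoryStruct_comp_base, CoGrothendieck.categoryStruct_comp_base, hb₁, hb₂]
    exact (Category.assoc _ _ _).trans ((congrArg _ pullback.condition).trans (Category.assoc _ _ _).symm)
  cart := by
    rintro T M φ ψ ⟨χ, rfl, rfl⟩ hφ
    exact isCart_comp (isCart_of_comp h₁ hφ) h₂
  exists_unique := by
    intro T M φ hφ b hb
    obtain ⟨χ, ⟨hχb, hχ⟩, -⟩ := existsUnique_lift h₁ φ (pullback.lift φ.base b hb)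
      ((congrArg _ hb₁).trans (pullback.lift_fst _ _ _))
    refine ⟨χ ≫ π₂, ⟨?_, χ, hχ, rfl⟩, ?_⟩
    · rw [CoGrothendieck.categoryStruct_comp_base, hχb, hb₂]
      exact pullback.lift_snd _ _ _
    · rintro ψ ⟨hψ, χ', hχ', rfl⟩
      refine congrArg (· ≫ π₂) (cancel_cart h₁ ?_ (hχ'.trans hχ.symm))
      refine pullback.hom_ext ?_ ?_
      · rw [hχb, ← base_fst hb₁, hχ']
        exact (pullback.lift_fst _ _ _).symm
      · rw [hχb]
        rw [CoGrothendieck.categoryStruct_comp_base, hb₂] at hψ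
        exact hψ.trans (pullback.lift_snd _ _ _).symm
  precomp := by
    rintro T T' M M' φ ψ τ - - ⟨χ, rfl, rfl⟩
    exact ⟨τ ≫ χ, Category.assoc _ _ _, Category.assoc _ _ _⟩
  trans := by
    rintro T M φ ψ ω hφ ⟨χ₁₂, rfl, rfl⟩ ⟨χ₂₃, he, rfl⟩
    have hbase : (χ₁₂.base ≫ pullback.fst p p) ≫ p = (χ₂₃.base ≫ pullback.snd p p) ≫ p := by
      have he' := congrArg CoGrothendieck.Hom.base he
      rw [CoGrothendieck.categoryStruct_comp_base, CoGrothendieck.categoryStruct_comp_base, hb₁, hb₂] at he'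
      rw [Category.assoc, Category.assoc, pullback.condition, ← Category.assoc, ← he', Category.assoc,
        pullback.condition]
    obtain ⟨χ₁₃, ⟨hb, h13⟩, -⟩ := existsUnique_lift h₁ (χ₁₂ ≫ π₁) (pullback.lift _ _ hbase)
      ((congrArg _ hb₁).trans ((pullback.lift_fst _ _ _).trans (base_fst hb₁ χ₁₂).symm))
    refine ⟨χ₁₃, h13, hc χ₁₂ χ₂₃ χ₁₃ (isCart_of_comp h₁ hφ) h13.symm he.symm ?_⟩
    rw [hb]
    exact pullback.lift_snd _ _ _

/-- the triple product -/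
abbrev Q3 (p : Z ⟶ Y) : Scheme.{u} := pullback (pullback.snd p p) (pullback.fst p p)

/-- the pair formed by the outer factors -/
abbrev out3 (p : Z ⟶ Y) : Q3 p ⟶ pullback p p :=
  pullback.lift (pullback.fst _ _ ≫ pullback.fst p p) (pullback.snd _ _ ≫ pullback.snd p p) (by
    rw [Category.assoc, pullback.condition, ← Category.assoc, pullback.condition, Category.assoc, pullback.condition,
      Category.assoc])

/-- the cocycle condition follows from the universal triple -/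
theorem isCocycle_of_universal (h₁ : IsCart π₁) (h₂ : IsCart π₂) (hb₁ : π₁.base = pullback.fst p p)
    (hb₂ : π₂.base = pullback.snd p p)
    (h : ∀ (M : (Q3 p).Modules) (k₁₂ k₂₃ k₁₃ : (⟨Q3 p, M⟩ : SM.{u}) ⟶ ⟨pullback p p, N⟩), IsCart k₁₂ →
      k₁₂.base = pullback.fst _ _ → k₂₃.base = pullback.snd _ _ → k₁₃.base = out3 p →
      k₁₂ ≫ π₁ = k₁₃ ≫ π₁ → k₁₂ ≫ π₂ = k₂₃ ≫ π₁ → k₁₃ ≫ π₂ = k₂₃ ≫ π₂) :
    IsCocycle π₁ π₂ := by
  intro T M χ₁₂ χ₂₃ χ₁₃ hc he₁ he₂ hs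
  have hbb : χ₁₂.base ≫ pullback.snd p p = χ₂₃.base ≫ pullback.fst p p := by
    have h := congrArg CoGrothendieck.Hom.base he₂
    rwa [CoGrothendieck.categoryStruct_comp_base, CoGrothendieck.categoryStruct_comp_base, hb₁, hb₂] at h
  let t : T ⟶ Q3 p := pullback.lift χ₁₂.base χ₂₃.base hbb
  let k₁₂ := mkHom (M := (Scheme.Modules.pullback (pullback.fst (pullback.snd p p) (pullback.fst p p))).obj N) (N := N)
    (pullback.fst (pullback.snd p p) (pullback.fst p p)) (𝟙 _)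
  have hk₁₂ : IsCart k₁₂ := isCart_mkHom _ _
  obtain ⟨k₂₃, ⟨hk₂₃b, hk₂₃⟩, -⟩ := existsUnique_lift h₁ (k₁₂ ≫ π₂) (pullback.snd _ _) (by
    rw [CoGrothendieck.categoryStruct_comp_base, hb₁, hb₂]
    exact pullback.condition.symm)
  obtain ⟨k₁₃, ⟨hk₁₃b, hk₁₃⟩, -⟩ := existsUnique_lift h₁ (k₁₂ ≫ π₁) (out3 p) (by
    rw [CoGrothendieck.categoryStruct_comp_base, hb₁]
    exact pullback.lift_fst _ _ _)
  obtain ⟨θ, ⟨hθb, hθ⟩, -⟩ := existsUnique_lift hk₁₂ χ₁₂ t (pullback.lift_fst _ _ _)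
  have e₂₃ : θ ≫ k₂₃ = χ₂₃ := by
    refine cancel_cart h₁ ?_ ?_
    · rw [CoGrothendieck.categoryStruct_comp_base, hθb, hk₂₃b]
      exact pullback.lift_snd _ _ _
    · rw [Category.assoc, hk₂₃, ← Category.assoc, hθ, he₂]
  have e₁₃ : θ ≫ k₁₃ = χ₁₃ := by
    refine cancel_cart h₁ ?_ ?_
    · rw [CoGrothendieck.categoryStruct_comp_base, hθb, hk₁₃b]
      refine pullback.hom_ext ?_ ?_
      · rw [Category.assoc, pullback.lift_fst, pullback.lift_fst_assoc, ← base_fst hb₁, ← base_fst hb₁, he₁]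
      · rw [Category.assoc, pullback.lift_snd, pullback.lift_snd_assoc, hs]
    · rw [Category.assoc, hk₁₃, ← Category.assoc, hθ, he₁]
  rw [← e₁₃, ← e₂₃, Category.assoc, Category.assoc,
    h _ k₁₂ k₂₃ k₁₃ hk₁₂ rfl hk₂₃b hk₁₃b hk₁₃.symm hk₂₃.symm]

end Groth.Agent.FppfPic

end
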