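import Groth.Agent.FppfPic.Apply
import Groth.Agent.PicGlue.Glue
import Groth.Agent.H23.SeesawGlobal
import Mathlib.AlgebraicGeometry.Sites.Fpqc

/-!
Invertible modules on disjoint unions, and fppf coverings by one morphism.
-/

noncomputable section

set_option autoImplicit false
set_option linter.style.haveILetI false
set_option backward.isDefEq.respectTransparency false
set_option backward.isDefEq.respectTransparency.types false
set_option maxHeartbeats 1000000
set_option synthInstance.maxHeartbeats 400000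
attribute [-instance] CategoryTheory.catToReflQuiver

universe u

open CategoryTheory CategoryTheory.Limits AlgebraicGeometry TopologicalSpace Opposite

namespace Groth.Agent.FppfPic

open Groth.Agent.AModX Groth.Agent.InvX

theorem isFrame_of_le_bot {X : Scheme.{u}} {L : X.Modules} {U : X.Opens} (h : U ≤ ⊥) (e : Γ(L, U)) : IsFrame e := by
  intro V hV
  refine ⟨fun a b _ => ?_, fun m => ⟨0, ?_⟩⟩
  · exact eq_of_locally (M := Coh.structureModule X) _ _ fun x hx => ((h (hV hx)) : False).elim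
  · exact eq_of_locally (M := L) _ _ fun x hx => ((h (hV hx)) : False).elim

variable {ι : Type u} (X : ι → Scheme.{u})

theorem sigma_preimage_eq_bot {i j : ι} (hij : i ≠ j) {U : (∐ X).Opens} (hU : U ≤ (Sigma.ι X j).opensRange) :
    (Sigma.ι X i) ⁻¹ᵁ U ≤ ⊥ := fun x hx =>
  (disjoint_iff.1 (disjoint_opensRange_sigmaι X i j hij)).le
    (show Sigma.ι X i x ∈ (Sigma.ι X i).opensRange ⊓ (Sigma.ι X j).opensRange from ⟨⟨x, rfl⟩, hU hx⟩)

/-- functions on an open of a disjoint union are families of functions -/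
theorem sigma_app_bijective (W : (∐ X).Opens) :
    Function.Bijective fun (g : Γ(∐ X, W)) i => (Sigma.ι X i).app W g := by
  have hiso : ∀ (i : ι) (V : (∐ X).Opens), V ≤ (Sigma.ι X i).opensRange →
      Function.Bijective ((Sigma.ι X i).app V) := fun i V hV => by
    haveI := (Sigma.ι X i).isIso_app V hV
    exact ConcreteCategory.bijective_of_isIso _
  refine ⟨fun a b h => eq_of_locally (M := Coh.structureModule _) _ _ fun x hx => ?_, fun c => ?_⟩
  · obtain ⟨i, y, rfl⟩ := (sigmaOpenCover X).exists_eq x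
    refine ⟨W ⊓ (Sigma.ι X i).opensRange, inf_le_left, ⟨hx, y, rfl⟩, (hiso i _ inf_le_right).1 ?_⟩
    show (Sigma.ι X i).app _ (resR inf_le_left a) = (Sigma.ι X i).app _ (resR inf_le_left b)
    rw [← PicGlue.app_resR, ← PicGlue.app_resR]
    exact congrArg _ (congrFun h i)
  · choose d hd using fun i => (hiso i (W ⊓ (Sigma.ι X i).opensRange) inf_le_right).2
      (resR ((Sigma.ι X i).preimage_mono inf_le_left) (c i))
    obtain ⟨g, hg, -⟩ := existsUnique_glue (M := Coh.structureModule _) (V := W)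
      (fun i => W ⊓ (Sigma.ι X i).opensRange) (fun _ => inf_le_left) (fun x hx => by
        obtain ⟨i, y, rfl⟩ := (sigmaOpenCover X).exists_eq x
        exact ⟨i, hx, y, rfl⟩) d fun i j => by
        by_cases hij : i = j
        · subst hij; rfl
        · refine eq_of_locally (M := Coh.structureModule _) _ _ fun x hx => False.elim ?_
          exact (disjoint_iff.1 (disjoint_opensRange_sigmaι X i j hij)).le (show x ∈ _ ⊓ _ from ⟨hx.1.2, hx.2.2⟩)
    refine ⟨g, funext fun i => ?_⟩
    refine eq_of_locally (M := Coh.structureModule _) _ _ fun y hy => ?_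
    refine ⟨(Sigma.ι X i) ⁻¹ᵁ (W ⊓ (Sigma.ι X i).opensRange), fun z hz => hz.1, ⟨hy, y, rfl⟩, ?_⟩
    show resR _ ((Sigma.ι X i).app W g) = resR _ (c i)
    rw [← hd i, PicGlue.app_resR _ (inf_le_left : W ⊓ (Sigma.ι X i).opensRange ≤ W)]
    exact congrArg _ (hg i)

/-- invertible modules on the members glue to the disjoint union -/
theorem exists_sigma_module (L : ∀ i, (X i).Modules) (hL : ∀ i, PicF.IsInvertible (L i)) :
    ∃ M : (∐ X).Modules, PicF.IsInvertible M ∧ ∀ i, Nonempty ((Scheme.Modules.pullback (Sigma.ι X i)).obj M ≅ L i) := by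
  classical
  have hex : ∀ z : ↥(∐ X : Scheme.{u}), ∃ (U : (∐ X).Opens) (e : ∀ i, Γ(L i, (Sigma.ι X i) ⁻¹ᵁ U)),
      z ∈ U ∧ ∀ i, IsFrame (e i) := by
    intro z
    obtain ⟨j, y, rfl⟩ := (sigmaOpenCover X).exists_eq z
    obtain ⟨O, hyO, s, hs⟩ := InvX.exists_frame (hL j) y
    let U := (Sigma.ι X j) ''ᵁ O
    have hUr : U ≤ (Sigma.ι X j).opensRange := by rintro _ ⟨w, -, rfl⟩; exact ⟨w, rfl⟩
    have hpre : (Sigma.ι X j) ⁻¹ᵁ U ≤ O := fun w ⟨w', hw', e⟩ => (Sigma.ι X j).isOpenEmbedding.injective e ▸ hw'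
    refine ⟨U, fun i => if h : i = j then (by subst h; exact res _ hpre s) else 0, ⟨y, hyO, rfl⟩, fun i => ?_⟩
    by_cases h : i = j
    · subst h
      simp only [dif_pos]
      exact hs.res hpre
    · exact isFrame_of_le_bot (sigma_preimage_eq_bot X h hUr) _
  choose U e hU he using hex
  exact PicGlue.exists_glue_of_joint_iso (fun i => Sigma.ι X i) (fun z => ⟨z, hU z⟩) (e := fun i z => e z i)
    (fun i z => he z i) ⊤ (fun _ _ _ => le_top) fun W _ => sigma_app_bijective X W

section disjoint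

open Groth.Agent.H23.PicMul

variable {Y : Scheme.{u}} (j : ∀ i, X i ⟶ Y) [∀ i, IsOpenImmersion (j i)]
  (hcov : ∀ y : Y, ∃ i, y ∈ (j i).opensRange) (hdisj : ∀ a b, a ≠ b → Disjoint (j a).opensRange (j b).opensRange)

include hcov hdisj

/-- invertible modules on disjoint open pieces glue -/
theorem exists_disjoint_module (L : ∀ i, (X i).Modules) (hL : ∀ i, PicF.IsInvertible (L i)) :
    ∃ M : Y.Modules, PicF.IsInvertible M ∧ ∀ i, PicF.pullCl (j i) (PicF.cl M) = PicF.cl (L i) := by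
  obtain ⟨hc⟩ := nonempty_isColimit_cofanMk_of j
    (eq_top_iff.2 fun y _ => Opens.mem_iSup.2 (hcov y)) fun a b hab => hdisj a b hab
  haveI : IsIso (Sigma.desc j) := (Cofan.nonempty_isColimit_iff_isIso_sigmaDesc (Cofan.mk Y j)).1 ⟨hc⟩
  obtain ⟨M, hM, he⟩ := exists_sigma_module X L hL
  refine ⟨(Scheme.Modules.pullback (inv (Sigma.desc j))).obj M, PicClLib.isInvertible_pullback _ hM, fun i => ?_⟩
  show PicF.pullCl (j i) (PicF.pullCl (inv (Sigma.desc j)) (PicF.cl M)) = _
  rw [PicClLib.pullCl_comp, show j i ≫ inv (Sigma.desc j) = Sigma.ι X i by rw [IsIso.comp_inv_eq, Sigma.ι_desc]]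
  exact (PicGrp.cl_eq_cl_iff _ _).2 (he i)

omit [∀ i, IsOpenImmersion (j i)] hcov hdisj in
theorem eq_of_mul {c d b : PicF.Cl Y} (hbd : b * d = 1) (h : b * c = 1) : c = d := by
  rw [← _root_.mul_one c, ← hbd, ← _root_.mul_assoc, mul_comm c b, h, _root_.one_mul]

/-- classes equal on disjoint open pieces are equal -/
theorem eq_of_disjoint {c d : PicF.Cl Y} (hc : PicF.IsInvertibleCl c) (hd : PicF.IsInvertibleCl d)
    (h : ∀ i, PicF.pullCl (j i) c = PicF.pullCl (j i) d) : c = d := by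
  obtain ⟨⟨b, hb⟩, hbd⟩ := exists_inv (⟨d, hd⟩ : PicLoc.PicSet Y)
  change b * d = 1 at hbd
  obtain ⟨M, hMc, hM⟩ := isInvertibleCl_mul hb hc
  have ht : ∀ i, H23.TrivBasic.Triv ((Scheme.Modules.pullback (j i)).obj M) := fun i => by
    refine (PicGrp.cl_eq_cl_iff _ _).1 ?_
    show PicF.pullCl (j i) (PicF.cl M) = 1
    rw [hMc, pullCl_mul, h i, ← pullCl_mul, hbd, pullCl_one]
  choose s hs using fun i => H23.SeesawGlobal.exists_frame_of_triv (j i) (ht i)
  obtain ⟨t, ht', -⟩ := existsUnique_glue (M := M) (V := (⊤ : Y.Opens)) (fun i => (j i).opensRange) (fun _ => le_top)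
    (fun y _ => hcov y) s fun a b => by
      by_cases hab : a = b
      · subst hab; rfl
      · exact eq_of_locally (M := M) _ _ fun y hy => ((disjoint_iff.1 (hdisj a b hab)).le hy : False).elim
  have htf : IsFrame t := H23.TrivBasic.isFrame_of_germwise fun y _ => by
    obtain ⟨i, hi⟩ := hcov y
    exact ⟨_, le_top, hi, (ht' i).symm ▸ hs i⟩
  refine eq_of_mul hbd ?_
  rw [← hMc]
  exact (PicGrp.cl_eq_cl_iff _ _).2 (H23.TrivBasic.triv_of_frame htf)

end disjoint

/-- an fppf covering is refined by a small family -/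
theorem exists_sigma_cover {T : Scheme.{u}} {R : Presieve T} (hR : R ∈ Scheme.fppfPrecoverage T) :
    ∃ (ι : Type u) (U : ι → Scheme.{u}) (u : ∀ i, U i ⟶ T), (∀ i, R (u i)) ∧
      Flat (Sigma.desc u) ∧ LocallyOfFinitePresentation (Sigma.desc u) ∧ Surjective (Sigma.desc u) := by
  have hsur : ∀ t : T, ∃ (V : Scheme.{u}) (v : V ⟶ T), R v ∧ t ∈ Set.range v := fun t => by
    obtain ⟨V, v, ⟨hv⟩, hx⟩ := hR.1 t
    exact ⟨_, _, hv, hx⟩
  choose U u hu ht using hsur
  refine ⟨T, U, u, hu, ?_, ?_, ⟨fun t => ?_⟩⟩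
  · rw [IsZariskiLocalAtSource.iff_of_openCover (P := @Flat) (sigmaOpenCover U)]
    intro i
    show Flat (Sigma.ι U i ≫ Sigma.desc u)
    rw [Sigma.ι_desc]
    exact (hR.2 (hu i)).1
  · rw [IsZariskiLocalAtSource.iff_of_openCover (P := @LocallyOfFinitePresentation) (sigmaOpenCover U)]
    intro i
    show LocallyOfFinitePresentation (Sigma.ι U i ≫ Sigma.desc u)
    rw [Sigma.ι_desc]
    exact (hR.2 (hu i)).2
  · obtain ⟨v, hv⟩ := ht t
    exact ⟨Sigma.ι U t v, by rw [← Scheme.Hom.comp_apply, Sigma.ι_desc, hv]⟩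

end Groth.Agent.FppfPic

end
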