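import Groth.Agent.FppfPic.RigSheaf
import Groth.Agent.FppfPic.Sigma

/-!
Points of a scheme representing the relative Picard sheaf are rigidified classes.
-/

noncomputable section

set_option autoImplicit false
set_option linter.style.haveILetI false
set_option linter.unusedSectionVars false
set_option backward.isDefEq.respectTransparency false
set_option backward.isDefEq.respectTransparency.types false
set_option maxHeartbeats 1000000
set_option synthInstance.maxHeartbeats 400000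
attribute [-instance] CategoryTheory.catToReflQuiver

universe u

open CategoryTheory CategoryTheory.Limits AlgebraicGeometry TopologicalSpace Opposite
open Groth.Agent.H23.PicMul

namespace Groth.Agent.FppfPic

variable {X S : Scheme.{u}} (f : X ⟶ S)

theorem pullCl_XTmap_comp {T T' T'' : Over S} (g : T'' ⟶ T') (g' : T' ⟶ T) (c : PicF.Cl (PicF.XT f T)) :
    PicF.pullCl (PicF.XTmap f g) (PicF.pullCl (PicF.XTmap f g') c) = PicF.pullCl (PicF.XTmap f (g ≫ g')) c := by
  rw [PicClLib.pullCl_comp]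
  congr 1
  refine pullback.hom_ext ?_ ?_ <;> simp [PicF.XTmap, pullback.map]

theorem isInvertibleCl_pull {A B : Scheme.{u}} (g : A ⟶ B) {c : PicF.Cl B} (hc : PicF.IsInvertibleCl c) :
    PicF.IsInvertibleCl (PicF.pullCl g c) := by
  obtain ⟨L, rfl, hL⟩ := hc
  exact ⟨_, rfl, PicClLib.isInvertible_pullback g hL⟩

/-- pieces of a disjoint union stay disjoint open pieces after base change -/
theorem sigma_pieces {T : Over S} {ι : Type u} (U : ι → Scheme.{u}) (u : ∀ i, U i ⟶ T.left)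
    (h : ∀ i, AbDual.ovr T (u i) ⟶ AbDual.ovr T (Sigma.desc u)) (hh : ∀ i, (h i).left = Sigma.ι U i) :
    (∀ i, IsOpenImmersion (PicF.XTmap f (h i))) ∧
    (∀ y : (PicF.XT f (AbDual.ovr T (Sigma.desc u))), ∃ i, y ∈ Set.range (PicF.XTmap f (h i))) ∧
    ∀ a b, a ≠ b → Disjoint (Set.range (PicF.XTmap f (h a))) (Set.range (PicF.XTmap f (h b))) := by
  have hp := fun i => isPullback_XTmap f (h i)
  refine ⟨fun i => ?_, fun y => ?_, fun a b hab => ?_⟩
  · haveI : IsOpenImmersion (h i).left := by rw [hh i]; exact inferInstanceAs (IsOpenImmersion (Sigma.ι U i))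
    exact MorphismProperty.of_isPullback (P := @IsOpenImmersion) (hp i).flip ‹_›
  · obtain ⟨i, z, hz⟩ := (sigmaOpenCover U).exists_eq (PicF.XTproj f (AbDual.ovr T (Sigma.desc u)) y)
    obtain ⟨w, hw, -⟩ := Scheme.Pullback.exists_preimage_pullback
      (f := PicF.XTproj f (AbDual.ovr T (Sigma.desc u))) (g := (h i).left) y z (by rw [hh i]; exact hz.symm)
    refine ⟨i, (hp i).isoPullback.inv w, ?_⟩
    rw [← Scheme.Hom.comp_apply, (hp i).isoPullback_inv_fst, hw]
  · refine Set.disjoint_left.2 ?_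
    rintro _ ⟨w, rfl⟩ ⟨w', hw'⟩
    have e := congrArg (PicF.XTproj f (AbDual.ovr T (Sigma.desc u))) hw'
    rw [← Scheme.Hom.comp_apply, ← Scheme.Hom.comp_apply, (hp a).w, (hp b).w, Scheme.Hom.comp_apply,
      Scheme.Hom.comp_apply, hh a, hh b] at e
    exact (disjoint_iff.1 (disjoint_opensRange_sigmaι U b a (Ne.symm hab))).le
      (show Sigma.ι U b (PicF.XTproj f _ w') ∈ (Sigma.ι U b).opensRange ⊓ (Sigma.ι U a).opensRange from
        ⟨⟨_, rfl⟩, _, e.symm⟩)

variable (σ : S ⟶ X) (hσ : σ ≫ f = 𝟙 S)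

theorem rig_pull {T T' : Over S} (g : T' ⟶ T) {c : PicF.Cl (PicF.XT f T)}
    (hc : PicF.pullCl (PicF.secT f σ hσ T) c = 1) :
    PicF.pullCl (PicF.secT f σ hσ T') (PicF.pullCl (PicF.XTmap f g) c) = 1 := by
  rw [PicClLib.pullCl_comp, secT_XTmap, ← PicClLib.pullCl_comp, hc, pullCl_one]

variable {P : Over S} {φ : ∀ T : Over S, PicF.Cl (PicF.XT f T) → (T ⟶ P)}
  (ha : ∀ (T : Over S) (U : T.left.Opens), IsIso ((PicF.XTproj f T).app U))
  (hP : AbDual.IsRelPicK Scheme.fppfPrecoverage f P φ)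

include hP

/-- classes from the base do not change the point -/
theorem φ_mul_base {T : Over S} {c : PicF.Cl (PicF.XT f T)} (hc : PicF.IsInvertibleCl c) {n : PicF.Cl T.left}
    (hn : PicF.IsInvertibleCl n) : φ T (c * PicF.pullCl (PicF.XTproj f T) n) = φ T c := by
  obtain ⟨N, rfl, hN⟩ := hn
  have hc' := isInvertibleCl_mul hc (isInvertibleCl_pull (PicF.XTproj f T) ⟨N, rfl, hN⟩)
  choose V hV e he using fun t => InvX.exists_frame hN t
  apply Over.OverMorphism.ext
  refine (T.left.openCoverOfIsOpenCover V (eq_top_iff.2 fun t _ => Opens.mem_iSup.2 ⟨t, hV t⟩)).hom_ext _ _ fun t => ?_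
  show (V t).ι ≫ _ = (V t).ι ≫ _
  let g := AbDual.ovrHom T (V t).ι
  have ht : PicF.pullCl (V t).ι (PicF.cl N) = 1 := (PicGrp.cl_eq_cl_iff _ _).2
    (H23.TrivBasic.triv_of_frame ((InvX.isFrame_pullElt (V t).ι (he t)).res (V t).ι_preimage_self.ge))
  have h : PicF.pullCl (PicF.XTmap f g) (c * PicF.pullCl (PicF.XTproj f T) (PicF.cl N)) =
      PicF.pullCl (PicF.XTmap f g) c := by
    rw [pullCl_mul, PicClLib.pullCl_comp, (isPullback_XTmap f g).w, ← PicClLib.pullCl_comp,
      show g.left = (V t).ι from rfl, ht, pullCl_one, _root_.mul_one]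
  have e := congrArg Over.Hom.left
    ((hP.natural T _ g _ hc').symm.trans ((congrArg (φ _) h).trans (hP.natural T _ g _ hc)))
  rw [Over.comp_left, Over.comp_left] at e
  exact e

include ha

/-- rigidified classes with the same point are equal -/
theorem eq_of_φ_eq {T : Over S} {c d : PicF.Cl (PicF.XT f T)} (hc : PicF.IsInvertibleCl c)
    (hd : PicF.IsInvertibleCl d) (hsc : PicF.pullCl (PicF.secT f σ hσ T) c = 1)
    (hsd : PicF.pullCl (PicF.secT f σ hσ T) d = 1) (h : φ T c = φ T d) : c = d := by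
  obtain ⟨R, hR, he⟩ := hP.locallyInjective T c d hc hd h
  obtain ⟨ι, U, u, hu, _, _, _⟩ := exists_sigma_cover hR
  let h' : ∀ i, AbDual.ovr T (u i) ⟶ AbDual.ovr T (Sigma.desc u) := fun i => Over.homMk (Sigma.ι U i) (by
    show Sigma.ι U i ≫ Sigma.desc u ≫ T.hom = u i ≫ T.hom
    rw [Sigma.ι_desc_assoc])
  obtain ⟨ho, hcov, hdisj⟩ := sigma_pieces f U u h' fun _ => rfl
  haveI := ho
  have hh : ∀ i, h' i ≫ AbDual.ovrHom T (Sigma.desc u) = AbDual.ovrHom T (u i) := fun i =>
    Over.OverMorphism.ext (Sigma.ι_desc _ _)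
  refine eq_of_rigid (flatBij_XTproj f ha T) (isPullback_XTmap f (AbDual.ovrHom T (Sigma.desc u)))
    (u := Sigma.desc u) (PicF.secT f σ hσ T) (pullback.lift_snd _ _ _) hc hd ?_ hsc hsd
  refine eq_of_disjoint _ (fun i => PicF.XTmap f (h' i)) hcov
    (fun a b hab => disjoint_iff.2 (Opens.ext (disjoint_iff.1 (hdisj a b hab))))
    (isInvertibleCl_pull _ hc) (isInvertibleCl_pull _ hd) fun i => ?_
  rw [pullCl_XTmap_comp, pullCl_XTmap_comp, hh i]
  exact he (u i) (hu i)

/-- every point comes from a rigidified class -/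
theorem exists_rig (T : Over S) (g : T ⟶ P) : ∃ c : PicF.Rig f σ hσ T, φ T c.1 = g := by
  obtain ⟨R, hR, he⟩ := hP.locallySurjective T g
  obtain ⟨ι, U, u, hu, _, _, _⟩ := exists_sigma_cover hR
  let h' : ∀ i, AbDual.ovr T (u i) ⟶ AbDual.ovr T (Sigma.desc u) := fun i => Over.homMk (Sigma.ι U i) (by
    show Sigma.ι U i ≫ Sigma.desc u ≫ T.hom = u i ≫ T.hom
    rw [Sigma.ι_desc_assoc])
  obtain ⟨ho, hcov, hdisj⟩ := sigma_pieces f U u h' fun _ => rfl
  haveI := ho
  choose c₀ hc₀ hφ₀ using fun i => he (u i) (hu i)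
  choose L hLc hL using hc₀
  obtain ⟨M, hM, hMi⟩ := exists_disjoint_module _ (fun i => PicF.XTmap f (h' i)) hcov
    (fun a b hab => disjoint_iff.2 (Opens.ext (disjoint_iff.1 (hdisj a b hab)))) L hL
  let T' := AbDual.ovr T (Sigma.desc u)
  let v := AbDual.ovrHom T (Sigma.desc u)
  have hφM : φ T' (PicF.cl M) = v ≫ g := by
    apply Over.OverMorphism.ext
    refine Sigma.hom_ext (f := U) _ _ fun i => ?_
    have e := hP.natural T' _ (h' i) (PicF.cl M) ⟨M, rfl, hM⟩
    rw [hMi i, hLc i, hφ₀ i] at e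
    have e' := congrArg Over.Hom.left e
    rw [Over.comp_left, Over.comp_left] at e'
    rw [Over.comp_left]
    exact e'.symm.trans ((congrArg (· ≫ g.left) (Sigma.ι_desc u i).symm).trans (Category.assoc _ _ _))
  -- normalise
  let A := PicF.pullCl (PicF.secT f σ hσ T') (PicF.cl M)
  obtain ⟨⟨B, hB⟩, hBA⟩ := exists_inv (⟨A, ⟨_, rfl, PicClLib.isInvertible_pullback _ hM⟩⟩ : PicLoc.PicSet T'.left)
  change B * A = 1 at hBA
  let C := PicF.cl M * PicF.pullCl (PicF.XTproj f T') B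
  have hC : PicF.IsInvertibleCl C := isInvertibleCl_mul ⟨M, rfl, hM⟩ (isInvertibleCl_pull _ hB)
  have hCs : PicF.pullCl (PicF.secT f σ hσ T') C = 1 := by
    rw [pullCl_mul, PicClLib.pullCl_comp, show PicF.secT f σ hσ T' ≫ PicF.XTproj f T' = 𝟙 _ from pullback.lift_snd _ _ _,
      PicClLib.pullCl_id, mul_comm]
    exact hBA
  have hφC : φ T' C = v ≫ g := by rw [φ_mul_base f hP ⟨M, rfl, hM⟩ hB, hφM]
  let g₂ : AbDual.ovr T' (pullback.fst (Sigma.desc u) (Sigma.desc u)) ⟶ T' :=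
    Over.homMk (pullback.snd (Sigma.desc u) (Sigma.desc u)) (pullback.condition_assoc T.hom).symm
  have hglue : PicF.pullCl (PicF.XTmap f (AbDual.ovrHom T' (pullback.fst (Sigma.desc u) (Sigma.desc u)))) C =
      PicF.pullCl (PicF.XTmap f g₂) C := by
    refine eq_of_φ_eq f σ hσ ha hP (isInvertibleCl_pull _ hC) (isInvertibleCl_pull _ hC) (rig_pull f σ hσ _ hCs)
      (rig_pull f σ hσ _ hCs) ?_
    rw [hP.natural _ _ _ _ hC, hP.natural _ _ _ _ hC, hφC, ← Category.assoc, ← Category.assoc]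
    congr 1
    exact Over.OverMorphism.ext pullback.condition
  obtain ⟨c, hcC, -⟩ := existsUnique_rig f σ hσ ha T (Sigma.desc u) ⟨C, hC, hCs⟩ hglue
  refine ⟨c, Over.OverMorphism.ext ?_⟩
  haveI := (FpqcDescLib.covers_of_isCovering (FpqcDescLib.isCovering_of_lfp (Sigma.desc u))).epi
  refine (cancel_epi (Sigma.desc u)).1 ?_
  have e := congrArg Over.Hom.left ((hP.natural T T' v c.1 c.2.1).symm.trans ((congrArg (φ T') hcC).trans hφC))
  rw [Over.comp_left, Over.comp_left] at e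
  exact e

omit ha in
theorem bijective_rig (ha : ∀ (T : Over S) (U : T.left.Opens), IsIso ((PicF.XTproj f T).app U)) (T : Over S) :
    Function.Bijective (fun c : PicF.Rig f σ hσ T => φ T c.1) :=
  ⟨fun c d h => Subtype.ext (eq_of_φ_eq f σ hσ ha hP c.2.1 d.2.1 c.2.2 d.2.2 h), fun g => exists_rig f σ hσ ha hP T g⟩

end Groth.Agent.FppfPic

end
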