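import Groth.Agent.FppfPic.Rigid
import Groth.Prelude.Def_AbDual

/-!
Rigidified classes satisfy descent for fppf coverings.
-/

noncomputable section

set_option autoImplicit false
set_option linter.style.haveILetI false
set_option backward.isDefEq.respectTransparency false
set_option backward.isDefEq.respectTransparency.types false
set_option maxHeartbeats 1000000
set_option synthInstance.maxHeartbeats 400000
attribute [-instance] CategoryTheory.catToReflQuiver

universe u

open CategoryTheory CategoryTheory.Limits AlgebraicGeometry TopologicalSpace Opposite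
open Groth.Agent.H23.PicMul

namespace Groth.Agent.FppfPic

variable {X S : Scheme.{u}} (f : X ⟶ S)

/-- descent of rigidified classes -/
theorem existsUnique_rig (σ : S ⟶ X) (hσ : σ ≫ f = 𝟙 S)
    (ha : ∀ (T : Over S) (U : T.left.Opens), IsIso ((PicF.XTproj f T).app U))
    (T : Over S) {U : Scheme.{u}} (u : U ⟶ T.left) [Flat u] [LocallyOfFinitePresentation u] [Surjective u]
    (c' : PicF.Rig f σ hσ (AbDual.ovr T u))
    (hglue : PicF.pullCl (PicF.XTmap f (AbDual.ovrHom (AbDual.ovr T u) (pullback.fst u u))) c'.1 =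
      PicF.pullCl (PicF.XTmap f (Over.homMk (pullback.snd u u) (pullback.condition_assoc T.hom).symm :
        AbDual.ovr (AbDual.ovr T u) (pullback.fst u u) ⟶ AbDual.ovr T u)) c'.1) :
    ∃! c : PicF.Rig f σ hσ T, PicF.pullCl (PicF.XTmap f (AbDual.ovrHom T u)) c.1 = c'.1 := by
  obtain ⟨c', ⟨L, rfl, hL⟩, hrig⟩ := c'
  let p := PicF.XTmap f (AbDual.ovrHom T u)
  have hZ : IsPullback p (PicF.XTproj f (AbDual.ovr T u)) (PicF.XTproj f T) u := isPullback_XTmap f (AbDual.ovrHom T u)
  have hb := flatBij_XTproj f ha T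
  obtain ⟨π₂, π₃, h₁, h₂, -, -⟩ := exists_squares hZ
  -- the double product of the covering
  let g₁ := AbDual.ovrHom (AbDual.ovr T u) (pullback.fst u u)
  let g₂ : AbDual.ovr (AbDual.ovr T u) (pullback.fst u u) ⟶ AbDual.ovr T u :=
    Over.homMk (pullback.snd u u) (pullback.condition_assoc T.hom).symm
  have s₁ : IsPullback (PicF.XTmap f g₁) (PicF.XTproj f _) (PicF.XTproj f (AbDual.ovr T u)) (pullback.fst u u) :=
    isPullback_XTmap f g₁
  have s₂ : IsPullback (PicF.XTmap f g₂) (PicF.XTproj f _) (PicF.XTproj f (AbDual.ovr T u)) (pullback.snd u u) :=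
    isPullback_XTmap f g₂
  let i := (h₁.isoIsPullback _ _ s₁).hom
  have i₁ : i ≫ PicF.XTmap f g₁ = pullback.fst p p := h₁.isoIsPullback_hom_fst _ _ s₁
  have i₂ : i ≫ PicF.XTmap f g₂ = pullback.snd p p := by
    refine hZ.hom_ext ?_ ?_
    · rw [← pullback.condition, ← i₁, Category.assoc, Category.assoc]
      refine congrArg (i ≫ ·) (pullback.hom_ext ?_ ?_)
      · simp [p, PicF.XTmap, pullback.map]
      · simp [p, PicF.XTmap, pullback.map, g₁, g₂, AbDual.ovrHom]
        exact congrArg (_ ≫ ·) pullback.condition.symm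
    · rw [Category.assoc, s₂.w, ← Category.assoc, h₁.isoIsPullback_hom_snd _ _ s₁, h₂.w]
  have hg : PicF.pullCl (pullback.fst p p) (PicF.cl L) = PicF.pullCl (pullback.snd p p) (PicF.cl L) := by
    rw [← i₁, ← i₂, ← PicClLib.pullCl_comp, ← PicClLib.pullCl_comp]
    exact congrArg _ hglue
  obtain ⟨M, hM, hp, hsM⟩ := exists_descend_rigid hb hZ (PicF.secT f σ hσ T) (pullback.lift_snd _ _ _)
    (PicF.secT f σ hσ _) (secT_XTmap f σ hσ _) (pullback.lift_snd _ _ _) hL hrig hg
  refine ⟨⟨PicF.cl M, ⟨M, rfl, hM⟩, hsM⟩, hp, fun d hd => Subtype.ext ?_⟩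
  exact eq_of_rigid hb hZ (PicF.secT f σ hσ T) (pullback.lift_snd _ _ _) d.2.1 ⟨M, rfl, hM⟩ (hd.trans hp.symm)
    d.2.2 hsM

end Groth.Agent.FppfPic

end
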