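import Groth.Agent.FppfPic.General

/-!
Fibre products of cartesian squares over a base.
-/

set_option autoImplicit false
set_option linter.style.haveILetI false
set_option backward.isDefEq.respectTransparency false
set_option backward.isDefEq.respectTransparency.types false
attribute [-instance] CategoryTheory.catToReflQuiver

universe u

open CategoryTheory CategoryTheory.Limits AlgebraicGeometry

namespace Groth.Agent.FppfPic

/-- the fibre product of two base changes is the base change of the fibre product -/
theorem exists_fibre_square {Y T A A' B B' : Scheme.{u}} {pr : Y ⟶ T} {mA : A ⟶ Y} {πA : A ⟶ A'} {a : A' ⟶ T}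
    {mB : B ⟶ Y} {πB : B ⟶ B'} {b : B' ⟶ T} (hA : IsPullback mA πA pr a) (hB : IsPullback mB πB pr b) :
    ∃ π : pullback mA mB ⟶ pullback a b,
      IsPullback (pullback.fst mA mB) π πA (pullback.fst a b) ∧
      IsPullback (pullback.snd mA mB) π πB (pullback.snd a b) := by
  have hc : (pullback.fst mA mB ≫ πA) ≫ a = (pullback.snd mA mB ≫ πB) ≫ b := by
    rw [Category.assoc, Category.assoc, ← hA.w, ← hB.w, ← Category.assoc, ← Category.assoc, pullback.condition]
  let π := pullback.lift _ _ hc
  have h₁ : π ≫ pullback.fst a b = pullback.fst mA mB ≫ πA := pullback.lift_fst _ _ _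
  have h₂ : π ≫ pullback.snd a b = pullback.snd mA mB ≫ πB := pullback.lift_snd _ _ _
  refine ⟨π, ?_, ?_⟩
  · have h := (IsPullback.of_hasPullback mA mB).paste_vert hB
    rw [hA.w, ← h₂] at h
    exact IsPullback.of_bot h h₁.symm (IsPullback.of_hasPullback a b)
  · have h := ((IsPullback.of_hasPullback mA mB).flip).paste_vert hA
    rw [hB.w, ← h₁] at h
    exact IsPullback.of_bot h h₂.symm (IsPullback.of_hasPullback a b).flip

variable {Y T Z U : Scheme.{u}} {pr : Y ⟶ T} {p : Z ⟶ Y} {πZ : Z ⟶ U} {u : U ⟶ T}

/-- the double and triple products of a base change are base changes of the double and triple products -/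
theorem exists_squares (hZ : IsPullback p πZ pr u) :
    ∃ (π₂ : pullback p p ⟶ pullback u u) (π₃ : Q3 p ⟶ Q3 u),
      IsPullback (pullback.fst p p) π₂ πZ (pullback.fst u u) ∧ IsPullback (pullback.snd p p) π₂ πZ (pullback.snd u u) ∧
      IsPullback (m2 p) π₂ pr (m2 u) ∧ IsPullback (m3 p) π₃ pr (m3 u) := by
  obtain ⟨π₂, h₁, h₂⟩ := exists_fibre_square hZ hZ
  obtain ⟨π₃, h₃, -⟩ := exists_fibre_square h₂ h₁
  exact ⟨π₂, π₃, h₁, h₂, h₁.paste_horiz hZ, h₃.paste_horiz (h₁.paste_horiz hZ)⟩

/-- functions seen along the section -/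
theorem bijective_snd_section {Q Q' : Scheme.{u}} (s : T ⟶ Y) (hs : s ≫ pr = 𝟙 T) {m : Q ⟶ Y} {π : Q ⟶ Q'}
    {v : Q' ⟶ T} (h : IsPullback m π pr v) (hb : Function.Bijective π.appTop) :
    Function.Bijective (pullback.snd s m).appTop := by
  have h' := (IsPullback.of_hasPullback s m).flip.paste_horiz h.flip
  rw [hs] at h'
  haveI : IsIso (pullback.snd s m ≫ π) := h'.isIso_fst_of_isIso
  have hc : Function.Bijective ((pullback.snd s m).appTop ∘ π.appTop) := by
    have := ConcreteCategory.bijective_of_isIso (pullback.snd s m ≫ π).appTop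
    rw [Scheme.Hom.comp_appTop] at this
    exact this
  exact (Function.Bijective.of_comp_iff _ hb).1 hc

end Groth.Agent.FppfPic
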