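import Groth.Agent.FppfPic.Apply
import Groth.Agent.FppfPic.Squares

/-!
Descent of classes rigidified along a section.
-/

noncomputable section

set_option autoImplicit false
set_option linter.style.haveILetI false
set_option linter.unusedSectionVars false
set_option backward.isDefEq.respectTransparency false
set_option backward.isDefEq.respectTransparency.types false
set_option maxHeartbeats 1000000
set_option synthInstance.maxHeartbeats 400000
attribute [-instance] CategoryTheory.catToReflQuiver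

universe u

open CategoryTheory CategoryTheory.Limits AlgebraicGeometry TopologicalSpace Opposite
open Groth.Agent.H23.PicMul

namespace Groth.Agent.FppfPic

variable {Y T Z U : Scheme.{u}} {pr : Y ⟶ T} {p : Z ⟶ Y} {πZ : Z ⟶ U} {u : U ⟶ T}

/-- functions on a flat base change come from the base -/
def FlatBij (pr : Y ⟶ T) : Prop :=
  ∀ ⦃Q Q' : Scheme.{u}⦄ (m : Q ⟶ Y) (π : Q ⟶ Q') (v : Q' ⟶ T), IsPullback m π pr v → Flat v →
    Function.Bijective π.appTop

/-- the inputs of normalised descent, for a rigidified class -/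
theorem rigid_inputs (hb : FlatBij pr) (hZ : IsPullback p πZ pr u) [Flat u] (s : T ⟶ Y) (hs : s ≫ pr = 𝟙 T)
    (sU : U ⟶ Z) (hsp : sU ≫ p = u ≫ s) (hsπ : sU ≫ πZ = 𝟙 U) {L : Z.Modules}
    (hrig : PicF.pullCl sU (PicF.cl L) = 1) :
    Nonempty ((Scheme.Modules.pullback (pullback.snd s p)).obj L ≅
      (Scheme.Modules.pullback (pullback.fst s p)).obj (Coh.structureModule T)) ∧
    Function.Bijective (pullback.snd s (m2 p)).appTop ∧ Function.Injective (pullback.snd s (m3 p)).appTop := by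
  obtain ⟨π₂, π₃, -, -, h₂, h₃⟩ := exists_squares hZ
  refine ⟨?_, bijective_snd_section s hs h₂ (hb _ _ _ h₂ inferInstance),
    (bijective_snd_section s hs h₃ (hb _ _ _ h₃ inferInstance)).1⟩
  have e : pullback.snd s p = (pullback.snd s p ≫ πZ) ≫ sU := by
    refine hZ.hom_ext ?_ ?_
    · rw [Category.assoc, hsp, Category.assoc, ← Category.assoc πZ, ← hZ.w, ← Category.assoc, ← Category.assoc,
        ← pullback.condition, Category.assoc (pullback.fst s p), hs, Category.comp_id]
    · rw [Category.assoc, hsπ, Category.comp_id]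
  refine iso_of_cl ?_
  show PicF.pullCl (pullback.snd s p) (PicF.cl L) = PicF.pullCl (pullback.fst s p) (1 : PicF.Cl T)
  rw [e, ← PicClLib.pullCl_comp, hrig, pullCl_one, pullCl_one]

/-- descent of a rigidified class along an fppf covering -/
theorem exists_descend_rigid (hb : FlatBij pr) (hZ : IsPullback p πZ pr u) [Flat u]
    [LocallyOfFinitePresentation u] [Surjective u] (s : T ⟶ Y) (hs : s ≫ pr = 𝟙 T)
    (sU : U ⟶ Z) (hsp : sU ≫ p = u ≫ s) (hsπ : sU ≫ πZ = 𝟙 U) {L : Z.Modules} (hL : PicF.IsInvertible L)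
    (hrig : PicF.pullCl sU (PicF.cl L) = 1)
    (hglue : PicF.pullCl (pullback.fst p p) (PicF.cl L) = PicF.pullCl (pullback.snd p p) (PicF.cl L)) :
    ∃ M : Y.Modules, PicF.IsInvertible M ∧ PicF.pullCl p (PicF.cl M) = PicF.cl L ∧
      PicF.pullCl s (PicF.cl M) = 1 := by
  haveI : Flat p := MorphismProperty.of_isPullback (P := @Flat) hZ.flip ‹_›
  haveI : LocallyOfFinitePresentation p := MorphismProperty.of_isPullback (P := @LocallyOfFinitePresentation) hZ.flip ‹_›
  haveI : Surjective p := MorphismProperty.of_isPullback (P := @Surjective) hZ.flip ‹_›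
  obtain ⟨hn, h₂, h₃⟩ := rigid_inputs hb hZ s hs sU hsp hsπ hrig
  obtain ⟨M, hM, ⟨e₁⟩, ⟨e₂⟩⟩ := exists_descend_fppf p s hL (InvX.isInvertible_structureModule (X := T))
    (iso_of_cl hglue) hn h₂ h₃
  exact ⟨M, hM, (PicGrp.cl_eq_cl_iff _ _).2 ⟨e₁⟩, (PicGrp.cl_eq_cl_iff _ _).2 ⟨e₂⟩⟩

/-- descent of a rigidified class along a flat quasi-compact surjection -/
theorem exists_descend_rigid_fpqc (hb : FlatBij pr) (hZ : IsPullback p πZ pr u) [Flat u]
    [QuasiCompact u] [Surjective u] (s : T ⟶ Y) (hs : s ≫ pr = 𝟙 T)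
    (sU : U ⟶ Z) (hsp : sU ≫ p = u ≫ s) (hsπ : sU ≫ πZ = 𝟙 U) {L : Z.Modules} (hL : PicF.IsInvertible L)
    (hrig : PicF.pullCl sU (PicF.cl L) = 1)
    (hglue : PicF.pullCl (pullback.fst p p) (PicF.cl L) = PicF.pullCl (pullback.snd p p) (PicF.cl L)) :
    ∃ M : Y.Modules, PicF.IsInvertible M ∧ PicF.pullCl p (PicF.cl M) = PicF.cl L ∧
      PicF.pullCl s (PicF.cl M) = 1 := by
  haveI : Flat p := MorphismProperty.of_isPullback (P := @Flat) hZ.flip ‹_›
  haveI : QuasiCompact p := MorphismProperty.of_isPullback (P := @QuasiCompact) hZ.flip ‹_›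
  haveI : Surjective p := MorphismProperty.of_isPullback (P := @Surjective) hZ.flip ‹_›
  obtain ⟨hn, h₂, h₃⟩ := rigid_inputs hb hZ s hs sU hsp hsπ hrig
  obtain ⟨M, hM, ⟨e₁⟩, ⟨e₂⟩⟩ := exists_descend_fpqc p s hL (InvX.isInvertible_structureModule (X := T))
    (iso_of_cl hglue) hn h₂ h₃
  exact ⟨M, hM, (PicGrp.cl_eq_cl_iff _ _).2 ⟨e₁⟩, (PicGrp.cl_eq_cl_iff _ _).2 ⟨e₂⟩⟩

/-- a rigidified class trivial on a covering is trivial -/
theorem eq_one_of_rigid (hb : FlatBij pr) (hZ : IsPullback p πZ pr u) [Flat u]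
    [LocallyOfFinitePresentation u] [Surjective u] (s : T ⟶ Y) (hs : s ≫ pr = 𝟙 T)
    {c : PicF.Cl Y} (hc : PicF.IsInvertibleCl c) (hp : PicF.pullCl p c = 1) (hsc : PicF.pullCl s c = 1) : c = 1 := by
  obtain ⟨L, rfl, hL⟩ := hc
  obtain ⟨π₂, π₃, -, -, h₂, h₃⟩ := exists_squares (IsPullback.of_hasPullback pr u)
  have b₂ : Function.Bijective (pullback.snd pr (m2 u)).appTop :=
    hb _ _ _ (IsPullback.of_hasPullback pr (m2 u)) inferInstance
  have b₃ : Function.Bijective (pullback.snd pr (m3 u)).appTop :=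
    hb _ _ _ (IsPullback.of_hasPullback pr (m3 u)) inferInstance
  have hf : PicF.pullCl (pullback.fst pr u) (PicF.cl L) = PicF.pullCl (pullback.snd pr u) (1 : PicF.Cl U) := by
    rw [← hZ.isoPullback_inv_fst, ← PicClLib.pullCl_comp, hp, pullCl_one, pullCl_one]
  obtain ⟨N, -, -, ⟨i⟩⟩ := exists_descend_fppf u pr (L := Coh.structureModule U)
    (InvX.isInvertible_structureModule (X := U)) hL
    ⟨(PicClLib.nonempty_pullback_structureModule _).some ≪≫ (PicClLib.nonempty_pullback_structureModule _).some.symm⟩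
    (iso_of_cl hf.symm) b₂ b₃.1
  have hi : PicF.pullCl pr (PicF.cl N) = PicF.cl L := (PicGrp.cl_eq_cl_iff _ _).2 ⟨i⟩
  have hN := congrArg (PicF.pullCl s) hi
  rw [PicClLib.pullCl_comp, hs, PicClLib.pullCl_id, hsc] at hN
  rw [← hi, hN, pullCl_one]

/-- two rigidified classes agreeing on a covering are equal -/
theorem eq_of_rigid (hb : FlatBij pr) (hZ : IsPullback p πZ pr u) [Flat u]
    [LocallyOfFinitePresentation u] [Surjective u] (s : T ⟶ Y) (hs : s ≫ pr = 𝟙 T)
    {c d : PicF.Cl Y} (hc : PicF.IsInvertibleCl c) (hd : PicF.IsInvertibleCl d)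
    (hp : PicF.pullCl p c = PicF.pullCl p d) (hsc : PicF.pullCl s c = 1) (hsd : PicF.pullCl s d = 1) : c = d := by
  obtain ⟨⟨b, hb'⟩, hbd⟩ := exists_inv (⟨d, hd⟩ : PicLoc.PicSet Y)
  change b * d = 1 at hbd
  have hsb : PicF.pullCl s b = 1 := by
    have h := congrArg (PicF.pullCl s) hbd
    rwa [pullCl_mul, pullCl_one, hsd, _root_.mul_one] at h
  have h := eq_one_of_rigid hb hZ s hs (isInvertibleCl_mul hb' hc)
    (by rw [pullCl_mul, hp, ← pullCl_mul, hbd, pullCl_one]) (by rw [pullCl_mul, hsb, hsc, _root_.mul_one])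
  rw [← _root_.mul_one c, ← hbd, ← _root_.mul_assoc, mul_comm c b, h, _root_.one_mul]

variable {X S : Scheme.{u}} (f : X ⟶ S)

/-- the structure map of a base change has only base functions, universally -/
theorem flatBij_XTproj (ha : ∀ (T : Over S) (U : T.left.Opens), IsIso ((PicF.XTproj f T).app U)) (T : Over S) :
    FlatBij (PicF.XTproj f T) := by
  intro Q Q' m π v h _
  have h' := h.paste_horiz (IsPullback.of_hasPullback f T.hom)
  have hb := bijective_snd_of_universal f ha (v ≫ T.hom)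
  haveI : IsIso h'.isoPullback.hom.appTop := inferInstance
  rw [← h'.isoPullback_hom_snd, Scheme.Hom.comp_appTop]
  exact (ConcreteCategory.bijective_of_isIso h'.isoPullback.hom.appTop).comp hb

/-- base change maps are base changes -/
theorem isPullback_XTmap {T T' : Over S} (g : T' ⟶ T) :
    IsPullback (PicF.XTmap f g) (PicF.XTproj f T') (PicF.XTproj f T) g.left := by
  refine IsPullback.of_right ?_ (pullback.lift_snd _ _ _) (IsPullback.of_hasPullback f T.hom)
  have e : PicF.XTmap f g ≫ pullback.fst f T.hom = pullback.fst f T'.hom :=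
    (pullback.lift_fst _ _ _).trans (Category.comp_id _)
  rw [e, Over.w g]
  exact IsPullback.of_hasPullback f T'.hom

theorem secT_XTmap (σ : S ⟶ X) (hσ : σ ≫ f = 𝟙 S) {T T' : Over S} (g : T' ⟶ T) :
    PicF.secT f σ hσ T' ≫ PicF.XTmap f g = g.left ≫ PicF.secT f σ hσ T := by
  refine pullback.hom_ext ?_ ?_
  · simp [PicF.secT, PicF.XTmap, pullback.map, Over.w_assoc]
  · simp [PicF.secT, PicF.XTmap, pullback.map]
    exact Category.id_comp _

end Groth.Agent.FppfPic

end
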