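import Groth.Agent.AVTheta.Effective
import Groth.Agent.H23.PicMul

/-!
Scalars of cartesian morphisms and descent of sections along coverings.
-/

noncomputable section

set_option autoImplicit false
set_option linter.style.haveILetI false
set_option linter.unusedSectionVars false
set_option backward.isDefEq.respectTransparency false
set_option backward.isDefEq.respectTransparency.types false
set_option maxHeartbeats 1000000
set_option synthInstance.maxHeartbeats 400000

universe u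

open CategoryTheory CategoryTheory.Limits AlgebraicGeometry TopologicalSpace Opposite Pseudofunctor Bicategory

namespace Groth.Agent.FppfPic

open Groth.Agent.AModX Groth.Agent.InvX Groth.Agent.AVTheta

/-- two cartesian morphisms over the same map differ by a function -/
theorem exists_scalar {a b : SM.{u}} (ha : PicF.IsInvertible (Y := a.base) a.fiber) {A B : a ⟶ b} (hA : IsCart A)
    (hB : IsCart B) (hb : A.base = B.base) : ∃ c : Γ(a.base, ⊤), IsUnit c ∧ A = sc a c ≫ B := by
  obtain ⟨v, ⟨hvb, hv⟩, -⟩ := existsUnique_lift hB A (𝟙 _) (by rw [Category.id_comp, hb])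
  obtain ⟨w, ⟨hwb, hw⟩, -⟩ := existsUnique_lift hA B (𝟙 _) (by rw [Category.id_comp, hb])
  obtain ⟨c, rfl⟩ := exists_eq_sc ha v hvb
  obtain ⟨d, rfl⟩ := exists_eq_sc ha w hwb
  refine ⟨c, IsUnit.of_mul_eq_one d (sc_injective ha ?_), hv.symm⟩
  rw [sc_one, ← sc_mul]
  refine cancel_cart hB ?_ ?_
  · rw [CoGrothendieck.categoryStruct_comp_base, sc_base, sc_base, Category.id_comp]
    rfl
  · rw [Category.assoc, hv, hw, Category.id_comp]

/-- equality of cartesian morphisms is seen by a map injective on functions -/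
theorem eq_of_comp_eq {a₀ a b : SM.{u}} (ha₀ : PicF.IsInvertible (Y := a₀.base) a₀.fiber)
    (ha : PicF.IsInvertible (Y := a.base) a.fiber) {s : a₀ ⟶ a} (hs : IsCart s)
    (hinj : Function.Injective s.base.appTop) {A B : a ⟶ b} (hA : IsCart A) (hB : IsCart B)
    (hb : A.base = B.base) (h : s ≫ A = s ≫ B) : A = B := by
  obtain ⟨c, -, hc⟩ := exists_scalar ha hA hB hb
  have h' : sc a₀ (s.base.appTop c) ≫ s ≫ B = 𝟙 _ ≫ s ≫ B := by
    rw [← Category.assoc, sc_comp_eq, Category.assoc, ← hc, h, Category.id_comp]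
  have h1 : sc a₀ (s.base.appTop c) = 𝟙 a₀ := cancel_cart (isCart_comp hs hB) (sc_base _ _) h'
  rw [← sc_one] at h1
  have h2 : c = 1 := hinj ((sc_injective ha₀ h1).trans (map_one _).symm)
  rw [hc, h2, sc_one, Category.id_comp]

/-- the source of a cartesian morphism to an invertible module is invertible -/
theorem isInvertible_source {a b : SM.{u}} {φ : a ⟶ b} (hφ : IsCart φ)
    (hb : PicF.IsInvertible (Y := b.base) b.fiber) : PicF.IsInvertible (Y := a.base) a.fiber := by
  haveI : IsIso (show a.fiber ⟶ (Scheme.Modules.pullback φ.base).obj b.fiber from φ.fiber) := hφ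
  exact H23.PicMul.isInvertible_of_iso (asIso (show a.fiber ⟶ (Scheme.Modules.pullback φ.base).obj b.fiber from φ.fiber)).symm
    (PicClLib.isInvertible_pullback φ.base hb)

section descent

variable {X A : Scheme.{u}} {P : X.Modules} {Q : A.Modules}

/-- sections acting equally along a covering are equal -/
theorem sec_injective (F : (⟨X, P⟩ : SM.{u}) ⟶ ⟨A, Q⟩) (hF : IsCart F) (hp : FpqcDescLib.Covers F.base)
    (hQ : PicF.IsInvertible Q) {W : A.Opens} {s s' : Γ(Q, W)} {m : Γ(P, F.base ⁻¹ᵁ W)}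
    (hs : IsAct F le_rfl s m) (hs' : IsAct F le_rfl s' m) : s = s' := by
  refine eq_of_locally _ _ fun y hy => ?_
  obtain ⟨U, hyU, e, he⟩ := InvX.exists_frame hQ y
  refine ⟨W ⊓ U, inf_le_left, ⟨hy, hyU⟩, ?_⟩
  obtain ⟨r, hr⟩ := he.exists_coord inf_le_right (res Q (inf_le_left : W ⊓ U ≤ W) s)
  obtain ⟨r', hr'⟩ := he.exists_coord inf_le_right (res Q (inf_le_left : W ⊓ U ≤ W) s')
  obtain ⟨f, hf, -⟩ := exists_act hF (le_refl (F.base ⁻¹ᵁ (W ⊓ U))) (res Q (inf_le_right : W ⊓ U ≤ U) e)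
  have a₁ := act_res (inf_le_left : W ⊓ U ≤ W) (F.base.preimage_mono inf_le_left) le_rfl hs
  have a₂ := act_res (inf_le_left : W ⊓ U ≤ W) (F.base.preimage_mono inf_le_left) le_rfl hs'
  rw [hr] at a₁
  rw [hr'] at a₂
  have c₁ := act_unique hF a₁ (act_smul r hf)
  have c₂ := act_unique hF a₂ (act_smul r' hf)
  rw [c₁] at c₂
  have := (isFrame_act hF (he.res _) hf).coord_unique le_rfl (show F.base.appLE (W ⊓ U) (F.base ⁻¹ᵁ (W ⊓ U)) le_rfl r • res P le_rfl f =
    F.base.appLE (W ⊓ U) (F.base ⁻¹ᵁ (W ⊓ U)) le_rfl r' • res P le_rfl f by rw [res_self]; exact c₂)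
  rw [← Scheme.Hom.app_eq_appLE] at this
  rw [hr, hr', desc_open_injective hp _ this]

/-- descent of sections along a covering -/
theorem exists_desc_sec (F : (⟨X, P⟩ : SM.{u}) ⟶ ⟨A, Q⟩) (hF : IsCart F) (hp : FpqcDescLib.Covers F.base)
    (hQ : PicF.IsInvertible Q) {m : Γ(P, ⊤)} (hm : IsFrame m)
    (hinv : ∀ (T : Scheme.{u}) (M : T.Modules) (α β : (⟨T, M⟩ : SM.{u}) ⟶ ⟨X, P⟩), IsCart α → IsCart β →
      α ≫ F = β ≫ F → ∀ m₁ m₂ : Γ(M, ⊤), IsAct α (Effective.topLe α.base) m m₁ →
        IsAct β (Effective.topLe β.base) m m₂ → m₁ = m₂) :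
    ∃ s : Γ(Q, ⊤), IsFrame s ∧ IsAct F (Effective.topLe F.base) s m := by
  choose U hU e he using fun y : A => InvX.exists_frame hQ y
  choose f hf using fun y => (exists_act hF (le_refl (F.base ⁻¹ᵁ U y)) (e y)).exists
  have hfr : ∀ y, IsFrame (f y) := fun y => isFrame_act hF (he y) (hf y)
  choose c hc using fun y => (hfr y).exists_coord le_rfl (res P (le_top : F.base ⁻¹ᵁ U y ≤ ⊤) m)
  -- the coordinates descend
  have hdesc : ∀ y, ∃ d, F.base.app (U y) d = c y := by
    intro y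
    refine exists_desc_open hp (U y) (c y) fun T a b hab ha hb => ?_
    let α := mkHom (M := (Scheme.Modules.pullback a).obj P) (N := P) a (𝟙 _)
    have hα : IsCart α := isCart_mkHom _ _
    obtain ⟨β, ⟨hβb, hβ⟩, -⟩ := existsUnique_lift hF (α ≫ F) b (by
      rw [CoGrothendieck.categoryStruct_comp_base]; exact hab.symm)
    have hβc : IsCart β := isCart_of_comp hF (by rw [hβ]; exact isCart_comp hα hF)
    have kb : (⊤ : T.Opens) ≤ β.base ⁻¹ᵁ F.base ⁻¹ᵁ U y := by rw [hβb]; exact hb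
    have ka : (⊤ : T.Opens) ≤ α.base ⁻¹ᵁ F.base ⁻¹ᵁ U y := ha
    obtain ⟨ma, hma, -⟩ := exists_act hα (Effective.topLe α.base) m
    obtain ⟨mb, hmb, -⟩ := exists_act hβc (Effective.topLe β.base) m
    have hmab := hinv T _ α β hα hβc hβ.symm ma mb hma hmb
    subst hmab
    obtain ⟨na, hna, -⟩ := exists_act hα ka (f y)
    obtain ⟨nb, hnb, -⟩ := exists_act hβc kb (f y)
    have hnab : na = nb := by
      have hle : (⊤ : T.Opens) ≤ (α ≫ F).base ⁻¹ᵁ U y := by
        rw [CoGrothendieck.categoryStruct_comp_base]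
        exact fun x hx => ka hx
      have h1 := act_comp F (hf y) hna hle
      have h2 := act_comp F (hf y) hnb (fun x hx => by
        rw [CoGrothendieck.categoryStruct_comp_base]
        exact kb hx)
      exact act_unique (isCart_comp hα hF) h1 (act_congr hβ hle h2)
    subst hnab
    have a₁ := act_res (le_top : F.base ⁻¹ᵁ U y ≤ ⊤) (le_refl (⊤ : T.Opens)) ka hma
    have a₂ := act_res (le_top : F.base ⁻¹ᵁ U y ≤ ⊤) (le_refl (⊤ : T.Opens)) kb hmb
    rw [res_self] at a₁ a₂
    rw [hc y, res_self] at a₁ a₂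
    have b₁ := act_unique hα a₁ (act_smul (c y) hna)
    have b₂ := act_unique hβc a₂ (act_smul (c y) hnb)
    have hfn := isFrame_of_act hα (hfr y) hna
    have h3 := hfn.coord_unique le_rfl (show α.base.appLE (F.base ⁻¹ᵁ U y) ⊤ ka (c y) • res _ le_rfl na =
      β.base.appLE (F.base ⁻¹ᵁ U y) ⊤ kb (c y) • res _ le_rfl na by rw [res_self]; exact b₁.symm.trans b₂)
    exact h3.trans (congr($(appLE_congr_hom hβb (F.base ⁻¹ᵁ U y) ⊤ kb hb) (c y)))
  choose d hd using hdesc
  have hact : ∀ y, IsAct F (le_refl (F.base ⁻¹ᵁ U y)) (d y • e y) (res P (le_top : F.base ⁻¹ᵁ U y ≤ ⊤) m) := by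
    intro y
    rw [hc y, ← hd y, res_self, Scheme.Hom.app_eq_appLE]
    exact act_smul (d y) (hf y)
  obtain ⟨s, hs, -⟩ := existsUnique_glue (M := Q) (V := (⊤ : A.Opens)) U (fun _ => le_top) (fun y _ => ⟨y, hU y⟩)
    (fun y => d y • e y) fun y y' => by
      have a₁ := act_res (inf_le_left : U y ⊓ U y' ≤ U y) (F.base.preimage_mono inf_le_left) le_rfl (hact y)
      have a₂ := act_res (inf_le_right : U y ⊓ U y' ≤ U y') (F.base.preimage_mono inf_le_right) le_rfl (hact y')
      rw [res_res] at a₁ a₂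
      exact sec_injective F hF hp hQ a₁ a₂
  -- the section acts to the given one
  have hsm : IsAct F (Effective.topLe F.base) s m := by
    obtain ⟨m', hm', -⟩ := exists_act hF (Effective.topLe F.base) s
    suffices h : m' = m by rwa [h] at hm'
    refine eq_of_locally _ _ fun x _ => ⟨F.base ⁻¹ᵁ U (F.base x), le_top, hU (F.base x), ?_⟩
    have a₁ := act_res (le_top : U (F.base x) ≤ ⊤) (le_top : F.base ⁻¹ᵁ U (F.base x) ≤ ⊤) le_rfl hm'
    rw [hs (F.base x)] at a₁
    exact act_unique hF a₁ (hact _)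
  refine ⟨s, H23.TrivBasic.isFrame_of_germwise fun y _ => ⟨U y, le_top, hU y, ?_⟩, hsm⟩
  rw [hs y]
  have hfc := hm.res (le_top : F.base ⁻¹ᵁ U y ≤ ⊤)
  obtain ⟨k, hk⟩ := hfc.exists_coord le_rfl (f y)
  rw [res_self] at hk
  -- the inverse descends too
  have hkc : k * c y = 1 := (hfr y).coord_unique le_rfl (by
    rw [res_self, mul_smul, one_smul]
    nth_rw 2 [hk]
    rw [hc y, res_self])
  obtain ⟨d', hd'⟩ : ∃ d', F.base.app (U y) d' = k := by
    refine exists_desc_open hp (U y) k fun T a b hab ha hb => ?_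
    have hcd : a.appLE (F.base ⁻¹ᵁ U y) ⊤ ha (c y) = b.appLE (F.base ⁻¹ᵁ U y) ⊤ hb (c y) := by
      rw [← hd y]
      have := congr($(appLE_congr_hom hab (U y) ⊤ (fun x hx => ha hx) (fun x hx => hb hx)) (d y))
      rw [← Scheme.Hom.appLE_comp_appLE, ← Scheme.Hom.appLE_comp_appLE] at this
      rw [Scheme.Hom.app_eq_appLE]
      exact this
    have h1 := congrArg (a.appLE (F.base ⁻¹ᵁ U y) ⊤ ha) hkc
    have h2 := congrArg (b.appLE (F.base ⁻¹ᵁ U y) ⊤ hb) hkc
    rw [map_mul, map_one, hcd] at h1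
    rw [map_mul, map_one] at h2
    exact (left_inv_eq_right_inv h1 (by rw [mul_comm]; exact h2))
  have hdd : d y * d' = 1 := desc_open_injective hp (U y) (by rw [map_mul, map_one, hd y, hd', mul_comm, hkc])
  exact (he y).isUnit_smul (IsUnit.of_mul_eq_one _ hdd)

end descent

end Groth.Agent.FppfPic

end
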