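import Groth.Agent.S16759
import Groth.Agent.S14808
import Groth.Agent.H23.RigidGamma
import Groth.Agent.GeomField.GlobalFunctions
import Groth.Agent.PBC.Betti
import Groth.Agent.InvX.Tensor
import Groth.Agent.Div21Desc.Sections
import Groth.Prelude.Def_CohBC2
import Groth.Agent.Lib.GammaDescent

/-!
The seesaw principle through sections and degree zero base change.
-/

noncomputable section

set_option autoImplicit false
set_option linter.style.haveILetI false
set_option linter.unusedSectionVars false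
set_option backward.isDefEq.respectTransparency false
set_option backward.isDefEq.respectTransparency.types false
set_option maxHeartbeats 1000000
set_option synthInstance.maxHeartbeats 400000
attribute [-instance] CategoryTheory.catToReflQuiver

universe u

open CategoryTheory CategoryTheory.Limits AlgebraicGeometry TopologicalSpace Opposite
open Groth.Agent.InvX Groth.Agent.H23.TrivBasic Groth.Agent.H23.PicMul

namespace Groth.Agent.FppfPic

variable {X S : Scheme.{u}} (f : X ⟶ S)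

/-- degree zero base change of a nonzero space of sections produces a nonzero restricted section -/
theorem exists_pullElt_ne_zero {X' S' : Scheme.{u}} (g : S' ⟶ S) (f' : X' ⟶ S') (g' : X' ⟶ X)
    (w : g' ≫ f = f' ≫ g) (L : X.Modules) [Epi (CohBC.bc0 f g f' g' w L)]
    (hne : Nontrivial Γ((Scheme.Modules.pullback g').obj L, ⊤)) :
    ∃ (W : S.Opens) (σ : Γ(L, f ⁻¹ᵁ W)), (pullElt g' σ) ≠ 0 := by
  by_contra h
  push Not at h
  have h0 : CohBC.bc0Adj f g f' g' w L = 0 := by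
    refine Scheme.Modules.hom_ext _ _ fun W => ?_
    ext σ
    rw [CohBC.bc0Adj]
    simp only [Scheme.Modules.Hom.comp_app, Scheme.Modules.pushforward_map_app]
    rw [AddCommGrpCat.comp_apply]
    erw [show ((Scheme.Modules.pullbackPushforwardAdjunction g').unit.app L).app (f ⁻¹ᵁ W) σ = 0 from h W σ, map_zero]
    rfl
  have h1 : CohBC.bc0 f g f' g' w L = 0 := by
    rw [CohBC.bc0, h0, Equiv.symm_apply_eq]
    rw [Adjunction.homEquiv_unit, Functor.map_zero, comp_zero]
  have h2 : (𝟙 ((Scheme.Modules.pushforward f').obj ((Scheme.Modules.pullback g').obj L))) = 0 := by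
    rw [← cancel_epi (CohBC.bc0 f g f' g' w L), h1, zero_comp, zero_comp]
  obtain ⟨a, b, hab⟩ := hne
  have h3 : ∀ z : Γ((Scheme.Modules.pullback g').obj L, ⊤), z = 0 := fun z => by
    have h4 := congr(($h2).app ⊤ z)
    exact h4
  exact hab ((h3 a).trans (h3 b).symm)

theorem isInvertible_of_inverse {L M : X.Modules} (hL : PicF.IsInvertible L)
    (e : CohB1.tensorMod L M ≅ Coh.structureModule X) : PicF.IsInvertible M := by
  obtain ⟨D, hD, hLD⟩ := H23.PicInv.exists_inverse hL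
  have h1 : PicF.cl L * PicF.cl M = 1 := cl_eq_iff.2 ⟨e⟩
  have h2 : PicF.cl L * PicF.cl D = 1 := cl_eq_iff.2 hLD
  obtain ⟨i⟩ := cl_eq_iff.1 (show PicF.cl M = PicF.cl D by
    rw [← _root_.mul_one (PicF.cl M), ← h2, ← _root_.mul_assoc, mul_comm (PicF.cl M), h1, _root_.one_mul])
  exact isInvertible_of_iso i.symm hD

variable [IsProper f] [Flat f] [IsLocallyNoetherian S] [GeometricallyIntegral f]

theorem geometricallyConnected_of_integral : GeometricallyConnected f := by
  rw [GeometricallyConnected.eq_geometrically]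
  intro K _ y Z fst snd h
  haveI : IsIntegral Z := GeometricallyIntegral.geometrically_isIntegral (f := f) y fst snd h
  exact inferInstance

theorem constFibres_of_integral : H23.RigidApply.ConstFibres f := by
  haveI := geometricallyConnected_of_integral f
  exact H23.RigidGamma.constFibres f

theorem isField_fibre (s : S) : IsField Γ(f.fiber s, ⊤) := by
  have h := constFibres_of_integral f s
  have hk : IsField Γ(Spec (S.residueField s), ⊤) :=
    (Scheme.ΓSpecIso (S.residueField s)).commRingCatIsoToRingEquiv.toMulEquiv.isField (Field.toIsField _)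
  exact (RingEquiv.ofBijective (f.fiberToSpecResidueField s).appTop.hom h).symm.toMulEquiv.isField hk

theorem fiberRank_structure (s : S) : CohIII.fiberRank f (Coh.structureModule X) 0 s = 1 := by
  letI : (f.fiber s).Over (Spec (CommRingCat.of (S.residueField s : Type u))) := ⟨f.fiberToSpecResidueField s⟩
  obtain ⟨e⟩ := PicClLib.nonempty_pullback_structureModule (f.fiberι s)
  refine (HilbPoly.finrank_HH_iso (S.residueField s : Type u) e 0).trans ?_
  refine (GeomField.finrank_HH_zero (S.residueField s : Type u) (f.fiber s)).trans ?_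
  letI := GeomField.globalAlgebra (S.residueField s : Type u) (f.fiber s)
  refine (LinearEquiv.finrank_eq (LinearEquiv.ofBijective (Algebra.linearMap (S.residueField s) Γ(f.fiber s, ⊤)) ?_)).symm.trans
    (Module.finrank_self _)
  exact (constFibres_of_integral f s).comp (ConcreteCategory.bijective_of_isIso (Scheme.ΓSpecIso (S.residueField s)).inv)

theorem fibre_triv {L M : X.Modules} (hL : PicF.IsInvertible L) (hM : Nonempty (CohB1.tensorMod L M ≅ Coh.structureModule X))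
    (s : S) (h1 : Nontrivial (CohIII.fiberH f L s 0)) (h2 : Nontrivial (CohIII.fiberH f M s 0)) :
    Triv (CohIII.fiberMod f L s) := by
  haveI : IsIntegral (f.fiber s) := inferInstance
  let Ls := CohIII.fiberMod f L s
  let Ms := CohIII.fiberMod f M s
  let k := f.fiberι s
  have hLs : PicF.IsInvertible Ls := PicClLib.isInvertible_pullback k hL
  obtain ⟨e⟩ := hM
  have hMs : PicF.IsInvertible Ms :=
    PicClLib.isInvertible_pullback k (isInvertible_of_inverse hL e)
  have hLM : PicF.cl Ls * PicF.cl Ms = 1 :=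
    ((pullCl_mul k (PicF.cl L) (PicF.cl M)).symm.trans
      (congrArg (PicF.pullCl k) ((cl_eq_iff).2 ⟨e⟩))).trans (pullCl_one k)
  obtain ⟨i⟩ := cl_eq_iff.1 hLM
  have hv : ∀ {N : (f.fiber s).Modules}, Nontrivial (Coh.HH (f.fiber s) N 0) → ∃ x : Γ(N, ⊤), x ≠ 0 := fun {N} h => by
    haveI := h
    haveI : Nontrivial Γ(N, ⊤) := (Sheaf.H.equiv₀ (Coh.toAb N) isTerminalTop).symm.toEquiv.nontrivial
    exact exists_ne 0
  obtain ⟨a, ha⟩ := hv h1
  obtain ⟨b, hb⟩ := hv h2
  haveI hne : Nonempty (f.fiber s) := inferInstance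
  have hl : locus (tmul a b) = locus a ⊓ locus b := by
    have h := genLocus_mulHom hLs hMs (ofSect a) (ofSect b)
    rw [mulHom, one_ofSect, one_ofSect] at h
    exact h
  have hab : locus (tmul a b) ≠ ⊥ := by
    rw [hl]
    intro h0
    obtain ⟨x, hx⟩ : (locus a : Set (f.fiber s)).Nonempty :=
      (Opens.ne_bot_iff_nonempty _).1 (locus_ne_bot hLs ha)
    obtain ⟨y, hy⟩ : (locus b : Set (f.fiber s)).Nonempty :=
      (Opens.ne_bot_iff_nonempty _).1 (locus_ne_bot hMs hb)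
    obtain ⟨z, hz⟩ := PreirreducibleSpace.isPreirreducible_univ (locus a : Set _) (locus b : Set _)
      (locus a).2 (locus b).2 ⟨x, trivial, hx⟩ ⟨y, trivial, hy⟩
    exact (h0 ▸ hz.2 : z ∈ (⊥ : (f.fiber s).Opens))
  have hne0 : tmul a b ≠ 0 := fun h0 => by
    obtain ⟨x, hx⟩ := (Opens.ne_bot_iff_nonempty _).1 hab
    obtain ⟨U, hxU, hU⟩ := mem_locus_iff.1 hx
    rw [h0, map_zero] at hU
    haveI : Nonempty U := ⟨⟨x, hxU⟩⟩
    haveI : Nontrivial Γ(f.fiber s, U) := inferInstance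
    exact one_ne_zero (α := Γ(f.fiber s, U)) ((hU U le_rfl).1 (by simp only [AModX.res_self, smul_zero]))
  have hfr := locus_eq_top_iff.2 (isFrame_of_ne_zero ⟨i⟩ (isField_fibre f s) hne0)
  rw [hl] at hfr
  exact triv_of_frame (locus_eq_top_iff.1 (eq_top_iff.2 (hfr.ge.trans inf_le_left)))

/-- a base change epimorphism on a trivial fibre gives a frame near the fibre -/
theorem exists_frame_near {L : X.Modules} (hL : PicF.IsInvertible L) (s : S)
    (hT : Triv (CohIII.fiberMod f L s))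
    [Epi (CohBC.bc0 f (S.fromSpecResidueField s) (f.fiberToSpecResidueField s) (f.fiberι s) (f.fiber_fac s) L)] :
    ∃ V : S.Opens, s ∈ V ∧ ∃ σ : Γ(L, f ⁻¹ᵁ V), IsFrame σ := by
  obtain ⟨e, he⟩ := hT.exists_frame
  have hne : Nontrivial Γ((Scheme.Modules.pullback (f.fiberι s)).obj L, ⊤) := by
    haveI : Nontrivial Γ(f.fiber s, ⊤) := (isField_fibre f s).nontrivial
    exact (Equiv.ofBijective _ (he ⊤ le_rfl)).symm.nontrivial
  obtain ⟨W, σ, hσ⟩ := exists_pullElt_ne_zero f _ _ _ (f.fiber_fac s) L hne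
  have hpre : ∀ z : f.fiber s, f (f.fiberι s z) = s := fun z => by
    rw [← Scheme.Hom.comp_apply, f.fiber_fac]
    exact S.fromSpecResidueField_apply s _
  have hsW : s ∈ W := by
    by_contra hs
    refine hσ (AModX.eq_of_locally (M := (Scheme.Modules.pullback (f.fiberι s)).obj L) _ _ fun z hz => ?_)
    exact (hs (hpre z ▸ (hz : f (f.fiberι s z) ∈ W))).elim
  have htop : (⊤ : (f.fiber s).Opens) ≤ f.fiberι s ⁻¹ᵁ (f ⁻¹ᵁ W) := fun z _ => by
    show f (f.fiberι s z) ∈ W
    rw [hpre]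
    exact hsW
  have hfr : IsFrame (pullElt (f.fiberι s) σ) := by
    have heq : f.fiberι s ⁻¹ᵁ (f ⁻¹ᵁ W) = ⊤ := top_le_iff.1 htop
    have h := isFrame_of_ne_zero (s := AModX.res _ htop (pullElt (f.fiberι s) σ)) ⟨hT.some⟩ (isField_fibre f s) ?_
    · have h' := h.res (le_top : f.fiberι s ⁻¹ᵁ (f ⁻¹ᵁ W) ≤ ⊤)
      rwa [AModX.res_res, AModX.res_self] at h'
    · intro h0
      apply hσ
      have h' := congrArg (AModX.res _ (le_top : f.fiberι s ⁻¹ᵁ (f ⁻¹ᵁ W) ≤ ⊤)) h0
      rwa [AModX.res_res, AModX.res_self, map_zero] at h'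
  -- the bad set is closed and misses the fibre
  let G : X.Opens := sSup {U | ∃ hU : U ≤ f ⁻¹ᵁ W, IsFrame (AModX.res L hU σ)}
  have hG : ∀ x : X, f x = s → x ∈ G := by
    intro x hx
    obtain ⟨z, rfl⟩ : x ∈ Set.range (f.fiberι s) := by
      rw [f.range_fiberι]
      exact hx
    obtain ⟨U, hzU, ε, hε⟩ := InvX.exists_frame hL (f.fiberι s z)
    obtain ⟨g, hg⟩ := hε.exists_coord (inf_le_right : f ⁻¹ᵁ W ⊓ U ≤ U) (AModX.res L inf_le_left σ)
    have hzW : z ∈ f.fiberι s ⁻¹ᵁ (f ⁻¹ᵁ W) := htop trivial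
    have h1 := hfr.res ((f.fiberι s).preimage_mono (inf_le_left : f ⁻¹ᵁ W ⊓ U ≤ f ⁻¹ᵁ W))
    rw [res_pullElt (f.fiberι s) (inf_le_left : f ⁻¹ᵁ W ⊓ U ≤ f ⁻¹ᵁ W), hg, pullElt_smul] at h1
    have hz : f.fiberι s z ∈ X.basicOpen g := by
      have hε' := isFrame_pullElt (f.fiberι s) (hε.res (inf_le_right : f ⁻¹ᵁ W ⊓ U ≤ U))
      obtain ⟨g', hg'⟩ := h1.exists_coord le_rfl (pullElt (f.fiberι s) (AModX.res L inf_le_right ε))
      have h2 := hε'.coord_unique le_rfl (r := g' * (f.fiberι s).app _ g) (r' := 1) (by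
        rw [AModX.res_self] at hg'
        rw [AModX.res_self, one_smul, mul_smul, ← hg'])
      replace h2 := IsUnit.of_mul_eq_one_right g' h2
      have : z ∈ (f.fiber s).basicOpen ((f.fiberι s).app _ g) := by
        rw [(f.fiber s).basicOpen_of_isUnit h2]
        exact ⟨hzW, hzU⟩
      rw [← Scheme.preimage_basicOpen] at this
      exact this
    refine Opens.mem_sSup.2 ⟨X.basicOpen g, ⟨fun y hy => (X.basicOpen_le g hy).1, ?_⟩, hz⟩
    have h3 := congrArg (AModX.res L (X.basicOpen_le g)) hg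
    rw [AModX.res_res, AModX.res_smul, AModX.res_res] at h3
    rw [h3]
    exact (hε.res _).isUnit_smul (AModX.isUnit_resR _ _ le_rfl)
  let V : S.Opens := W ⊓ ⟨(f '' (G : Set X)ᶜ)ᶜ, (f.isClosedMap _ G.2.isClosed_compl).isOpen_compl⟩
  refine ⟨V, ⟨hsW, fun ⟨x, hxG, hxs⟩ => hxG (hG x hxs)⟩, AModX.res L (f.preimage_mono inf_le_left) σ,
    isFrame_of_germwise fun x hx => ?_⟩
  obtain ⟨U, ⟨hU, hUf⟩, hxU⟩ := Opens.mem_sSup.1 (show x ∈ G from by_contra fun h => hx.2 ⟨x, h, rfl⟩)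
  refine ⟨U ⊓ f ⁻¹ᵁ V, inf_le_right, ⟨hxU, hx⟩, ?_⟩
  have h' := hUf.res (inf_le_left : U ⊓ f ⁻¹ᵁ V ≤ U)
  rw [AModX.res_res] at h' ⊢
  exact h'

theorem nonzero_of_triv {L : X.Modules} (s : S) (hT : Triv (CohIII.fiberMod f L s)) :
    CohIII.fiberRank f L 0 s = 1 ∧ Nontrivial (CohIII.fiberH f L s 0) := by
  letI : (f.fiber s).Over (Spec (CommRingCat.of (S.residueField s : Type u))) := ⟨f.fiberToSpecResidueField s⟩
  obtain ⟨e⟩ := hT
  obtain ⟨u⟩ := PicClLib.nonempty_pullback_structureModule (f.fiberι s)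
  have h : CohIII.fiberRank f L 0 s = 1 :=
    (HilbPoly.finrank_HH_iso (S.residueField s : Type u) (e ≪≫ u.symm) 0).trans (fiberRank_structure f s)
  exact ⟨h, Module.nontrivial_of_finrank_eq_succ (n := 0) h⟩

/-- a frame near the fibre makes degree zero base change surjective -/
theorem epi_bc0_of_frame {L : X.Modules} (s : S) {V : S.Opens} (hs : s ∈ V) (ε : Γ(L, f ⁻¹ᵁ V)) (hε : IsFrame ε) :
    Epi (CohBC.bc0 f (S.fromSpecResidueField s) (f.fiberToSpecResidueField s) (f.fiberι s) (f.fiber_fac s) L) := by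
  constructor
  intro Z a b hab
  let g := S.fromSpecResidueField s
  let f' := f.fiberToSpecResidueField s
  have hadj := congrArg ((Scheme.Modules.pullbackPushforwardAdjunction g).homEquiv _ _) hab
  rw [Adjunction.homEquiv_naturality_right, Adjunction.homEquiv_naturality_right, CohBC.bc0,
    Equiv.apply_symm_apply] at hadj
  have hev := congr(($hadj).app V ε)
  have hle : f' ⁻¹ᵁ (g ⁻¹ᵁ V) = f.fiberι s ⁻¹ᵁ (f ⁻¹ᵁ V) := by
    rw [← Scheme.Hom.comp_preimage, ← Scheme.Hom.comp_preimage]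
    exact congrArg (· ⁻¹ᵁ V) (f.fiber_fac s).symm
  let z : Γ((Scheme.Modules.pushforward f').obj ((Scheme.Modules.pullback (f.fiberι s)).obj L), g ⁻¹ᵁ V) :=
    (CohBC.bc0Adj f g f' (f.fiberι s) (f.fiber_fac s) L).app V ε
  have hz : a.app (g ⁻¹ᵁ V) z = b.app (g ⁻¹ᵁ V) z := hev
  have hzf : IsFrame (M := (Scheme.Modules.pullback (f.fiberι s)).obj L) (U := f' ⁻¹ᵁ (g ⁻¹ᵁ V)) z := by
    have h : (show Γ((Scheme.Modules.pullback (f.fiberι s)).obj L, f' ⁻¹ᵁ (g ⁻¹ᵁ V)) from z) =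
        AModX.res _ hle.le (pullElt (f.fiberι s) ε) := rfl
    exact h ▸ (isFrame_pullElt (f.fiberι s) hε).res hle.le
  refine Scheme.Modules.hom_ext _ _ fun W => ?_
  ext x
  refine AModX.eq_of_locally (M := Z) _ _ fun p hp => ?_
  have hW : W = g ⁻¹ᵁ V := by
    ext q
    rw [Subsingleton.elim q p]
    exact iff_of_true hp (by show g p ∈ V; rw [S.fromSpecResidueField_apply]; exact hs)
  subst hW
  refine ⟨g ⁻¹ᵁ V, le_rfl, hp, congrArg (AModX.res Z le_rfl) ?_⟩
  obtain ⟨r, hr⟩ := (hzf _ le_rfl).2 x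
  have hb : Function.Bijective (f'.app (g ⁻¹ᵁ V)) := by
    have ht : g ⁻¹ᵁ V = ⊤ := top_le_iff.1 fun q _ => Subsingleton.elim p q ▸ hp
    rw [ht]
    exact constFibres_of_integral f s
  obtain ⟨t, rfl⟩ := hb.2 r
  simp only [AModX.res_self] at hr
  rw [← hr]
  exact ((a.app_smul t z).trans (congrArg (t • ·) hz)).trans (b.app_smul t z).symm

/-- the seesaw principle through sections and base change -/
theorem seesaw_h0 {L M : X.Modules} (hL : PicF.IsInvertible L)
    (hM : Nonempty (CohB1.tensorMod L M ≅ Coh.structureModule X)) :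
    ((∃ L₀ : S.Modules, PicF.IsInvertible L₀ ∧ Nonempty (L ≅ (Scheme.Modules.pullback f).obj L₀)) ↔
      ((∀ s : S, Nontrivial (CohIII.fiberH f L s 0)) ∧ (∀ s : S, Nontrivial (CohIII.fiberH f M s 0)) ∧
        (∀ s : S, Epi (CohBC.bc0 f (S.fromSpecResidueField s) (f.fiberToSpecResidueField s) (f.fiberι s) (f.fiber_fac s) L)) ∧ (∀ s : S, Epi (CohBC.bc0 f (S.fromSpecResidueField s) (f.fiberToSpecResidueField s) (f.fiberι s) (f.fiber_fac s) M)))) ∧
    (((∀ s : S, Nontrivial (CohIII.fiberH f L s 0)) ∧ (∀ s : S, Nontrivial (CohIII.fiberH f M s 0)) ∧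
        (∀ s : S, Epi (CohBC.bc0 f (S.fromSpecResidueField s) (f.fiberToSpecResidueField s) (f.fiberι s) (f.fiber_fac s) L)) ∧ (∀ s : S, Epi (CohBC.bc0 f (S.fromSpecResidueField s) (f.fiberToSpecResidueField s) (f.fiberι s) (f.fiber_fac s) M))) →
      (∀ s : S, CohIII.fiberRank f L 0 s = 1 ∧ CohIII.fiberRank f M 0 s = 1) ∧
      IsIso ((Scheme.Modules.pullbackPushforwardAdjunction f).counit.app L) ∧
      ∀ L₀ : S.Modules, PicF.IsInvertible L₀ → Nonempty (L ≅ (Scheme.Modules.pullback f).obj L₀) →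
        Nonempty (L₀ ≅ (Scheme.Modules.pushforward f).obj L)) := by
  obtain ⟨e⟩ := hM
  have hMi := isInvertible_of_inverse hL e
  obtain ⟨e'⟩ := cl_eq_iff.1 ((mul_comm (PicF.cl M) (PicF.cl L)).trans (cl_eq_iff.2 ⟨e⟩) :
    PicF.cl (CohB1.tensorMod M L) = 1)
  haveI : GeometricallyConnected f := geometricallyConnected_of_integral f
  haveI : LocallyOfFinitePresentation f := inferInstance
  have hf := GammaDescent.bijective_app f (constFibres_of_integral f)
  have fwd : ∀ {L M : X.Modules}, PicF.IsInvertible L → Nonempty (CohB1.tensorMod L M ≅ Coh.structureModule X) →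
      ∀ {L₀ : S.Modules}, PicF.IsInvertible L₀ → (L ≅ (Scheme.Modules.pullback f).obj L₀) → ∀ s : S,
      Nontrivial (CohIII.fiberH f L s 0) ∧
        Epi (CohBC.bc0 f (S.fromSpecResidueField s) (f.fiberToSpecResidueField s) (f.fiberι s) (f.fiber_fac s) L) := by
    intro L M _ _ L₀ hL₀ i s
    obtain ⟨V, hsV, η, hη⟩ := InvX.exists_frame hL₀ s
    have hε := (isFrame_pullElt f hη).map_iso i.symm
    refine ⟨(nonzero_of_triv f s ?_).2, epi_bc0_of_frame f s hsV _ hε⟩
    have hfr := isFrame_pullElt (f.fiberι s) hε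
    have hle : (⊤ : (f.fiber s).Opens) ≤ f.fiberι s ⁻¹ᵁ (f ⁻¹ᵁ V) := fun z _ => by
      show f (f.fiberι s z) ∈ V
      rw [← Scheme.Hom.comp_apply, f.fiber_fac, Scheme.Hom.comp_apply, S.fromSpecResidueField_apply]
      exact hsV
    exact triv_of_frame (hfr.res hle)
  have bwd : (∀ s : S, Nontrivial (CohIII.fiberH f L s 0)) → (∀ s : S, Nontrivial (CohIII.fiberH f M s 0)) →
      (∀ s : S, Epi (CohBC.bc0 f (S.fromSpecResidueField s) (f.fiberToSpecResidueField s) (f.fiberι s) (f.fiber_fac s) L)) →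
      PicF.IsInvertible ((Scheme.Modules.pushforward f).obj L) ∧
        IsIso ((Scheme.Modules.pullbackPushforwardAdjunction f).counit.app L) := fun h1 h2 h3 =>
    S16759.of_local f hf L fun s => @exists_frame_near _ _ f _ _ _ _ L hL s (fibre_triv f hL ⟨e⟩ s (h1 s) (h2 s)) (h3 s)
  refine ⟨⟨fun ⟨L₀, hL₀, ⟨i⟩⟩ => ?_, fun ⟨h1, h2, h3, h4⟩ => ?_⟩, fun ⟨h1, h2, h3, h4⟩ => ?_⟩
  · obtain ⟨D, hD, ⟨d⟩⟩ := H23.PicInv.exists_inverse hL₀
    obtain ⟨i'⟩ : Nonempty (M ≅ (Scheme.Modules.pullback f).obj D) := cl_eq_iff.1 (by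
      have ha : PicF.cl L * PicF.cl M = 1 := cl_eq_iff.2 ⟨e⟩
      have hb : PicF.cl L * PicF.cl ((Scheme.Modules.pullback f).obj D) = 1 := by
        have hi : PicF.cl L = PicF.pullCl f (PicF.cl L₀) := cl_eq_iff.2 ⟨i⟩
        have hd : PicF.cl L₀ * PicF.cl D = 1 := cl_eq_iff.2 ⟨d⟩
        rw [hi]
        exact (pullCl_mul f _ _).symm.trans ((congrArg _ hd).trans (pullCl_one f))
      rw [← _root_.mul_one (PicF.cl M), ← hb, ← _root_.mul_assoc, mul_comm (PicF.cl M), ha, _root_.one_mul])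
    exact ⟨fun s => (fwd hL ⟨e⟩ hL₀ i s).1, fun s => (fwd hMi ⟨e'⟩ hD i' s).1,
      fun s => (fwd hL ⟨e⟩ hL₀ i s).2, fun s => (fwd hMi ⟨e'⟩ hD i' s).2⟩
  · obtain ⟨hp, hc⟩ := bwd h1 h2 h3
    exact ⟨_, hp, ⟨(asIso ((Scheme.Modules.pullbackPushforwardAdjunction f).counit.app L)).symm⟩⟩
  · obtain ⟨hp, hc⟩ := bwd h1 h2 h3
    refine ⟨fun s => ⟨(nonzero_of_triv f s (fibre_triv f hL ⟨e⟩ s (h1 s) (h2 s))).1,
      (nonzero_of_triv f s (fibre_triv f hMi ⟨e'⟩ s (h2 s) (h1 s))).1⟩, hc, fun L₀ hL₀ ⟨i⟩ => ?_⟩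
    haveI := H23.PullPush.isIso_unit_of_isFinLocFree f hf L₀ (H23.PullPush.isFinLocFree_of_isInvertible hL₀)
    exact ⟨asIso ((Scheme.Modules.pullbackPushforwardAdjunction f).unit.app L₀) ≪≫
      (Scheme.Modules.pushforward f).mapIso i.symm⟩

end Groth.Agent.FppfPic

end
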