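import Groth.Agent.FppfPic.RelPic
import Groth.Agent.FppfPic.TrivClosed

/-!
Separatedness of a scheme representing the relative Picard sheaf.
-/

noncomputable section

set_option autoImplicit false
set_option linter.style.haveILetI false
set_option linter.unusedSectionVars false
set_option backward.isDefEq.respectTransparency false
set_option backward.isDefEq.respectTransparency.types false
set_option maxHeartbeats 1000000
set_option synthInstance.maxHeartbeats 400000
attribute [-instance] CategoryTheory.catToReflQuiver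

universe u

open CategoryTheory CategoryTheory.Limits AlgebraicGeometry TopologicalSpace Opposite
open Groth.Agent.H23 Groth.Agent.H23.PicMul Groth.Agent.H23.TrivBasic Groth.Agent.H23.SeesawGlobal

namespace Groth.Agent.FppfPic

variable {X S : Scheme.{u}} (f : X ⟶ S) {P : Over S} {φ : ∀ T : Over S, PicF.Cl (PicF.XT f T) → (T ⟶ P)}
  (hP : AbDual.IsRelPicK Scheme.fppfPrecoverage f P φ)

include hP

/-- every point comes from a class on a covering by one morphism -/
theorem exists_cl_cover (T : Over S) (g : T ⟶ P) :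
    ∃ (U : Scheme.{u}) (u : U ⟶ T.left), Flat u ∧ LocallyOfFinitePresentation u ∧ Surjective u ∧
      ∃ c, PicF.IsInvertibleCl c ∧ φ (AbDual.ovr T u) c = AbDual.ovrHom T u ≫ g := by
  obtain ⟨R, hR, he⟩ := hP.locallySurjective T g
  obtain ⟨ι, U, u, hu, hfl, hlfp, hs⟩ := exists_sigma_cover hR
  let h' : ∀ i, AbDual.ovr T (u i) ⟶ AbDual.ovr T (Sigma.desc u) := fun i => Over.homMk (Sigma.ι U i) (by
    show Sigma.ι U i ≫ Sigma.desc u ≫ T.hom = u i ≫ T.hom
    rw [Sigma.ι_desc_assoc])
  obtain ⟨ho, hcov, hdisj⟩ := sigma_pieces f U u h' fun _ => rfl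
  haveI := ho
  choose c₀ hc₀ hφ₀ using fun i => he (u i) (hu i)
  choose L hLc hL using hc₀
  obtain ⟨M, hM, hMi⟩ := exists_disjoint_module _ (fun i => PicF.XTmap f (h' i)) hcov
    (fun a b hab => disjoint_iff.2 (Opens.ext (disjoint_iff.1 (hdisj a b hab)))) L hL
  refine ⟨∐ U, Sigma.desc u, hfl, hlfp, hs, PicF.cl M, ⟨M, rfl, hM⟩, ?_⟩
  apply Over.OverMorphism.ext
  refine Sigma.hom_ext (f := U) _ _ fun i => ?_
  have e := hP.natural _ _ (h' i) (PicF.cl M) ⟨M, rfl, hM⟩
  rw [hMi i, hLc i, hφ₀ i] at e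
  have e' := congrArg Over.Hom.left e
  rw [Over.comp_left, Over.comp_left] at e'
  rw [Over.comp_left]
  exact e'.symm.trans ((congrArg (· ≫ g.left) (Sigma.ι_desc u i).symm).trans (Category.assoc _ _ _))

/-- at a field valued point the two classes give the same point exactly when they are fibrewise equal -/
theorem eq_point_iff [IsProper f] [Flat f] [LocallyOfFinitePresentation f] [GeometricallyIntegral f]
    {T : Over S} {c d b : PicF.Cl (PicF.XT f T)} (hc : PicF.IsInvertibleCl c) (hd : PicF.IsInvertibleCl d)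
    (hb : PicF.IsInvertibleCl b) (hbd : b * d = 1) {M : (PicF.XT f T).Modules} (hM : PicF.cl M = b * c) (t : T.left) :
    T.left.fromSpecResidueField t ≫ (φ T c).left = T.left.fromSpecResidueField t ≫ (φ T d).left ↔
      FieldTriv (PicF.XTproj f T) M t := by
  have hMi : PicF.IsInvertible M := by
    obtain ⟨M', hM', hM'i⟩ := isInvertibleCl_mul hb hc
    obtain ⟨e⟩ := (PicGrp.cl_eq_cl_iff _ _).1 (hM'.trans hM.symm)
    exact H23.PicMul.isInvertible_of_iso e hM'i
  have key : ∀ (A : Scheme.{u}) (k : A ⟶ T.left), Triv ((Scheme.Modules.pullback (pullback.fst (PicF.XTproj f T) k)).obj M) ↔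
      PicF.pullCl (PicF.XTmap f (AbDual.ovrHom T k)) c = PicF.pullCl (PicF.XTmap f (AbDual.ovrHom T k)) d := by
    intro A k
    have hp : IsPullback (PicF.XTmap f (AbDual.ovrHom T k)) (PicF.XTproj f (AbDual.ovr T k)) (PicF.XTproj f T) k :=
      isPullback_XTmap f (AbDual.ovrHom T k)
    have hx : PicF.pullCl (pullback.fst (PicF.XTproj f T) k) (PicF.cl M) = 1 ↔
        PicF.pullCl (PicF.XTmap f (AbDual.ovrHom T k)) (PicF.cl M) = 1 := by
      constructor <;> intro h
      · rw [← hp.isoPullback_hom_fst, ← PicClLib.pullCl_comp, h, pullCl_one]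
      · rw [← hp.isoPullback_inv_fst, ← PicClLib.pullCl_comp, h, pullCl_one]
    have hbd' : PicF.pullCl (PicF.XTmap f (AbDual.ovrHom T k)) b * PicF.pullCl (PicF.XTmap f (AbDual.ovrHom T k)) d = 1 := by
      rw [← pullCl_mul, hbd, pullCl_one]
    refine (PicGrp.cl_eq_cl_iff _ _).symm.trans (hx.trans ?_)
    rw [hM, pullCl_mul]
    exact ⟨fun h => eq_of_mul hbd' h, fun h => by rw [h, hbd']⟩
  constructor
  · intro h
    let T₁ := AbDual.ovr T (T.left.fromSpecResidueField t)
    let v := AbDual.ovrHom T (T.left.fromSpecResidueField t)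
    have e : φ T₁ (PicF.pullCl (PicF.XTmap f v) c) = φ T₁ (PicF.pullCl (PicF.XTmap f v) d) := by
      rw [hP.natural _ _ _ _ hc, hP.natural _ _ _ _ hd]
      exact Over.OverMorphism.ext h
    obtain ⟨R, hR, he⟩ := hP.locallyInjective _ _ _ (isInvertibleCl_pull _ hc) (isInvertibleCl_pull _ hd) e
    obtain ⟨ι, U, u, hu, -, -, hs⟩ := exists_sigma_cover hR
    obtain ⟨x, hx⟩ := hs.surj (IsLocalRing.closedPoint (T.left.residueField t))
    obtain ⟨i, y, rfl⟩ := (sigmaOpenCover U).exists_eq x
    have hy : u i y = IsLocalRing.closedPoint (T.left.residueField t) := by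
      rw [← hx, ← Scheme.Hom.comp_apply]
      exact congr($((Sigma.ι_desc u i).symm) y)
    let k := ((U i).fromSpecResidueField y ≫ u i) ≫ T.left.fromSpecResidueField t
    refine fieldTriv_of_triv (PicF.XTproj f T) M hMi t ((U i).residueField y) k ?_ ((key _ k).2 ?_)
    · show (((U i).fromSpecResidueField y ≫ u i) ≫ T.left.fromSpecResidueField t) _ = t
      rw [Scheme.Hom.comp_apply]
      exact Scheme.fromSpecResidueField_apply _ _
    · let w : AbDual.ovr T k ⟶ AbDual.ovr T₁ (u i) := Over.homMk ((U i).fromSpecResidueField y) (by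
        simp [k, T₁, AbDual.ovr])
      have ew : AbDual.ovrHom T k = w ≫ AbDual.ovrHom T₁ (u i) ≫ v :=
        Over.OverMorphism.ext (Category.assoc _ _ _)
      rw [ew, ← pullCl_XTmap_comp, ← pullCl_XTmap_comp, ← pullCl_XTmap_comp, ← pullCl_XTmap_comp, he (u i) (hu i)]
  · intro h
    have h' := (key _ (T.left.fromSpecResidueField t)).1 (h _ _ (Scheme.fromSpecResidueField_apply _ _))
    have e := congrArg (fun z => (φ (AbDual.ovr T (T.left.fromSpecResidueField t)) z).left) h'
    simp only [hP.natural _ _ _ _ hc, hP.natural _ _ _ _ hd, Over.comp_left] at e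
    exact e

/-- the relative Picard scheme is separated -/
theorem isSeparated [IsProper f] [Flat f] [LocallyOfFinitePresentation f] [GeometricallyIntegral f] :
    IsSeparated P.hom := by
  refine ⟨?_⟩
  haveI : IsImmersion (pullback.diagonal P.hom) := inferInstance
  refine IsClosedImmersion.of_isPreimmersion _ ?_
  let T : Over S := Over.mk (pullback.fst P.hom P.hom ≫ P.hom)
  let g₁ : T ⟶ P := Over.homMk (pullback.fst P.hom P.hom) rfl
  let g₂ : T ⟶ P := Over.homMk (pullback.snd P.hom P.hom) pullback.condition.symm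
  obtain ⟨U₁, u₁, _, _, _, c₁, hc₁, hφ₁⟩ := exists_cl_cover f hP T g₁
  obtain ⟨U₂, u₂, _, _, _, c₂, hc₂, hφ₂⟩ := exists_cl_cover f hP _ (AbDual.ovrHom T u₁ ≫ g₂)
  let T₂ := AbDual.ovr (AbDual.ovr T u₁) u₂
  let v := u₂ ≫ u₁
  let c := PicF.pullCl (PicF.XTmap f (AbDual.ovrHom (AbDual.ovr T u₁) u₂)) c₁
  obtain ⟨⟨b, hb⟩, hbd⟩ := exists_inv (⟨c₂, hc₂⟩ : PicLoc.PicSet (PicF.XT f T₂))
  change b * c₂ = 1 at hbd
  have hci : PicF.IsInvertibleCl c := isInvertibleCl_pull _ hc₁
  obtain ⟨M, hMc, hM⟩ := isInvertibleCl_mul hb hci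
  have hv : Topology.IsQuotientMap v := v.isOpenMap.isQuotientMap v.continuous v.surjective
  rw [← hv.isClosed_preimage]
  have hcl := isClosed_trivLocus (PicF.XTproj f T₂) M hM
  refine (congrArg IsClosed (Set.ext fun t => ?_)).mpr hcl
  refine Iff.trans ?_ (eq_point_iff f hP hci hc₂ hb hbd hMc t)
  rw [hP.natural _ _ _ _ hc₁, hφ₁, hφ₂]
  show v t ∈ Set.range (pullback.diagonal P.hom) ↔
    T₂.left.fromSpecResidueField t ≫ u₂ ≫ u₁ ≫ pullback.fst _ _ = T₂.left.fromSpecResidueField t ≫ u₂ ≫ u₁ ≫ pullback.snd _ _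
  have hnat := Scheme.Hom.SpecMap_residueFieldMap_fromSpecResidueField v t
  have hq : ∀ q : T.left ⟶ P.left, T₂.left.fromSpecResidueField t ≫ u₂ ≫ u₁ ≫ q =
      Spec.map (v.residueFieldMap t) ≫ T.left.fromSpecResidueField (v t) ≫ q := fun q => by
    rw [← Category.assoc (Spec.map _), hnat]
    exact (congrArg (T₂.left.fromSpecResidueField t ≫ ·) (Category.assoc _ _ _).symm).trans (Category.assoc _ _ _).symm
  rw [hq, hq]
  haveI : Surjective (Spec.map (v.residueFieldMap t)) := ⟨fun z => ⟨IsLocalRing.closedPoint _, Subsingleton.elim _ _⟩⟩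
  haveI : Flat (Spec.map (v.residueFieldMap t)) := inferInstance
  haveI : Epi (Spec.map (v.residueFieldMap t)) := Flat.epi_of_flat_of_surjective _
  rw [cancel_epi]
  constructor
  · rintro ⟨z, hz⟩
    have hn := Scheme.Hom.SpecMap_residueFieldMap_fromSpecResidueField (pullback.diagonal P.hom) z
    rw [← hz]
    let m := Spec.map ((pullback.diagonal P.hom).residueFieldMap z)
    haveI : Surjective m := ⟨fun w => ⟨IsLocalRing.closedPoint _, Subsingleton.elim _ _⟩⟩
    haveI : Flat m := inferInstance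
    haveI : Epi m := Flat.epi_of_flat_of_surjective _
    have hX : m ≫ T.left.fromSpecResidueField (pullback.diagonal P.hom z) =
        P.left.fromSpecResidueField z ≫ pullback.diagonal P.hom := hn
    rw [← cancel_epi m, ← Category.assoc, ← Category.assoc, hX, Category.assoc, Category.assoc, pullback.diagonal_fst,
      pullback.diagonal_snd]
  · intro h
    have e : T.left.fromSpecResidueField (v t) = (T.left.fromSpecResidueField (v t) ≫ pullback.fst _ _) ≫ pullback.diagonal P.hom := by
      refine pullback.hom_ext ?_ ?_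
      · rw [Category.assoc, pullback.diagonal_fst, Category.comp_id]
      · rw [Category.assoc, pullback.diagonal_snd, Category.comp_id]
        exact h.symm
    refine ⟨(T.left.fromSpecResidueField (v t) ≫ pullback.fst _ _) (IsLocalRing.closedPoint _), ?_⟩
    rw [← Scheme.Hom.comp_apply]
    exact (congr($(e.symm) _)).trans (Scheme.fromSpecResidueField_apply _ _)

end Groth.Agent.FppfPic

end
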